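import Cfsg.Agent.J4.K

/-! The subgroup `O₂(C(z))`. -/

set_option autoImplicit false
set_option linter.unusedSectionVars false

namespace J4
open Cfsg Subgroup FT H4 H5 GW
open scoped commutatorElement

variable {G : Type*} [Group G] [Finite G] {M : Type*} [Group M]

/-- `O₂(C(z))` -/
abbrev EE (z : G) : Subgroup G := pCoreIn 2 (Cen1 z)

/-- `C(z)` has characteristic 2 -/
def Ch (z : G) : Prop := Cen1 z ⊓ Cen (EE z) ≤ EE z

theorem Ch.conj {z : G} (h : Ch z) (g : G) : Ch (g * z * g⁻¹) := by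
  unfold Ch EE Cen
  rw [← conj_c1, ← conjS_pCoreIn, ← conjS_centralizer, ← conjS_inf]
  exact conjS_mono g h

theorem E2 (z : G) : IsPGroup 2 (EE z) := isPGroup_pCoreIn 2 _
theorem EH (z : G) : EE z ≤ Cen1 z := pCoreIn_le 2 _
theorem nE (z : G) : Cen1 z ≤ Nor (EE z) := le_normalizer.trans (nOp 2 _)

theorem zp2 {z w : G} (h : z * z = 1) (hw : w ∈ zpowers z) : w = 1 ∨ w = z := by
  by_cases e : z = 1
  · left; simpa [e] using hw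
  · exact BS.Inv.mem_zpowers ⟨e, h⟩ hw

theorem pg2 {z : G} (h : z * z = 1) : IsPGroup 2 (zpowers z) := by
  rintro ⟨w, hw⟩
  exact ⟨1, Subtype.ext (by rcases zp2 h hw with rfl | rfl <;> simp [pow_two, h])⟩

theorem zE {z : G} (h : z * z = 1) : z ∈ EE z :=
  zpowers_le.1 (le_pCoreIn (zpowers_le.2 (c1.2 rfl)) (nzp le_rfl) (pg2 h))

theorem c1inv (a : G) : Cen1 a⁻¹ = Cen1 a := by
  rw [← cen_zp, zpowers_inv, cen_zp]

theorem E9.cases {x c a : G} (h : E9 x c) (ha : a ∈ ZZ x c) (h1 : a ≠ 1) : Cen1 a = Cen1 x ∨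
    Cen1 a = Cen1 c ∨ Cen1 a = Cen1 (c * x) ∨ Cen1 a = Cen1 (c * x * x) := by
  obtain ⟨n, hn, k, rfl⟩ := h.mem ha
  have cm := c1.1 h.cm
  have xi : x⁻¹ = x * x := inv_eq_of_mul_eq_one_left (by rw [← pow_three', h.x3])
  rcases mem_zp3 h.ox hn with e | e | e <;>
    rcases mem_zp3 h.oc (zpow_mem_zpowers c k) with e' | e' | e' <;> rw [e, e'] at h1 ⊢
  · simp at h1
  · simp
  · simp [c1inv]
  · simp
  · simp [cm]
  · right; right; right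
    rw [← c1inv, mul_inv_rev, inv_inv, xi, mul_assoc]
  · simp [c1inv]
  · right; right; right
    rw [xi, mul_assoc, ← cm, ← mul_assoc, ← cm]
  · right; right; left
    rw [← c1inv, mul_inv_rev, inv_inv, inv_inv]

theorem E9.mul {x c : G} (h : E9 x c) : E9 x (c * x) :=
  ⟨h.ox, h.exp (mul_mem (mem_sup_right (mem_zpowers c)) (mem_sup_left (mem_zpowers x))),
    fun e => h.cx ((mul_mem_cancel_right (mem_zpowers x)).1 e), mul_mem h.cm (c1.2 rfl)⟩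

theorem E9.mul' {x c : G} (h : E9 x c) : E9 c (c * x) :=
  ⟨h.oc, h.mul.c3, fun e => h.symm.cx ((mul_mem_cancel_left (mem_zpowers c)).1 e),
    mul_mem (c1.2 rfl) h.symm.cm⟩

theorem num1 {s i a b n m : ℕ} (h : s * i = a * b) (hi : 2 ≤ i) (ha : a ≤ n) (hb : b ≤ m) :
    s * 2 ≤ n * m := (Nat.mul_le_mul_left s hi).trans (h ▸ Nat.mul_le_mul ha hb)

theorem num2 {a b : ℕ} (g1 : 2 ^ a ≡ 2 ^ b [MOD 11]) (g2 : 2 ^ b < 2 ^ a) (f7 : 2 ^ a ≤ 128) :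
    False := by
  have : a ≤ 7 := (Nat.pow_le_pow_iff_right (by norm_num)).1 (f7.trans (by norm_num))
  have : b < a := (Nat.pow_lt_pow_iff_right (by norm_num)).1 g2
  interval_cases a <;> interval_cases b <;> simp_all [Nat.ModEq]

theorem num3 {k : ℕ} (e : 2 ^ k ≡ 2 [MOD 3]) (h4 : 2 ^ k ≤ 64) : 2 ^ k ≤ 8 ∨ 2 ^ k = 32 := by
  have : k ≤ 6 := (Nat.pow_le_pow_iff_right (by norm_num)).1 (h4.trans (by norm_num))
  interval_cases k <;> simp_all [Nat.ModEq]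

namespace St
variable {x z c : G} {π : Cen1 x →* M} (h : St x z π)
include h

theorem EC : EE z ⊓ Cen1 x ≤ zpowers z :=
  h.two_le inf_le_right (ninf (h.zc.trans (nE z)) le_normalizer) ((E2 z).to_le inf_le_left)

theorem xE : x ∉ EE z := fun e => by
  rcases zp2 h.z2 (h.EC ⟨e, h.xC⟩) with e | e
  · exact h.x1 e
  · exact h.xinv (inv_eq_of_mul_eq_one_left (e ▸ h.z2))

theorem genE (e9 : E9 x c) {W : Subgroup G} (zW : z ∈ W) (nW : Cen1 x ≤ Nor W)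
    (hD : EE z ⊓ Cen1 c ≤ W) : EE z ≤ W := by
  refine e9.gen (e9.le.trans (h.zc.trans (nE z))) (E2 z) fun a ha a1 => ?_
  by_cases e : a ∈ zpowers x
  · have : Cen1 a = Cen1 x := by
      rcases mem_zp3 h.ox e with rfl | rfl | rfl
      exacts [absurd rfl a1, rfl, c1inv _]
    exact this ▸ h.EC.trans (zpowers_le.2 zW)
  · obtain ⟨k, hk, rfl⟩ := h.conj3 e9.cm e9.c3 e9.cx (e9.le ha) (e9.exp ha) e
    intro u hu
    have := cmem (nW hk) (hD (mem_inf.2 ⟨cmem' (nE z (h.zc hk)) hu.1,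
      mem_conjS.1 ((conj_c1 k c).symm ▸ hu.2)⟩))
    simpa [mul_assoc] using this

theorem neq (ch : Ch z) (e9 : E9 x c) {w : G} {π' : Cen1 c →* M} (h' : St c w π') : w ≠ z := by
  rintro rfl
  have := h.genE e9 (mem_zpowers w) (nzp h.zc) h'.EC
  exact h.xE (ch ⟨h.zc h.xC, cen_iff_le.2 (this.trans (zpowers_le.2 h.zx))⟩)

theorem uniq {w : G} (z1 : z ≠ 1) {π' : Cen1 x →* M} (h' : St x w π') : z = w :=
  (h'.Z2 (h'.of_ctr h.zx fun g hg => by rw [c1'.1 (h.zc hg)]; simp) (k := 1)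
    (by simp [pow_two, h.z2])).resolve_left z1

theorem NH (z1 : z ≠ 1) : Nor (zpowers x) ≤ Cen1 z := fun n hn => by
  have nC : n ∈ Nor (Cen1 x) := cen_zp x ▸ mcen hn
  refine c1'.2 ((h.Z2 (h.of_ctr (cmem nC h.zx) fun g hg => ?_) (k := 1) (by
    rw [conj_pow]; simp [pow_two, h.z2])).resolve_left fun e => z1 (conj_eq_one_iff.1 e))
  have : g * (n * z * n⁻¹) * g⁻¹ = n * z * n⁻¹ := by
    calc _ = n * (n⁻¹ * g * n * z * (n⁻¹ * g * n)⁻¹) * n⁻¹ := by group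
      _ = _ := by rw [c1'.1 (h.zc (cmem' nC hg))]
  rw [this]; simp

theorem EN {e : G} (he : e ∈ EE z) (hn : e ∈ Nor (zpowers x)) : e ∈ zpowers z := by
  refine h.EC ⟨he, c1'.2 ((nor3 h.ox hn).resolve_right fun e' => h.xE ?_)⟩
  have := mul_mem he (cmem (nE z (h.zc h.xC)) (inv_mem he))
  rw [show e * (x * e⁻¹ * x⁻¹) = e * x * e⁻¹ * x⁻¹ by group, e'] at this
  rwa [show x⁻¹ * x⁻¹ = (x ^ 3)⁻¹ * x by group, h.x3, inv_one, one_mul] at this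

theorem fixz {a e : G} (a3 : a ^ 3 = 1) (az : a ∈ Cen1 z) (ez : e ∈ Cen1 z)
    (hc : a * e * a⁻¹ * e⁻¹ ∈ zpowers z) : e ∈ Cen1 a := by
  have e1 : a * e * a⁻¹ = e * (a * e * a⁻¹ * e⁻¹) := by
    rw [cen.1 (cen_zp z ▸ ez) _ hc]; group
  have := fix_of_odd (odd3 (k := 1) a3) (k := 1) (by
    rcases zp2 h.z2 hc with e | e <;> simp [e, pow_two, h.z2]) (cen.1 (cen_zp z ▸ az) _ hc) e1
  rw [this, mul_one] at e1
  exact c1s.1 (c1'.2 e1)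

end St

variable (M) in
/-- the configuration in `G` -/
structure GS (x z c y z1 : G) (π : Cen1 x →* M) : Prop extends St x z π where
  zn : z ≠ 1
  zn1 : z1 ≠ 1
  ch : Ch z
  ch1 : Ch z1
  e9 : E9 x c
  yC : y ∈ Cen1 x
  yc : y * c * y⁻¹ = c * x
  s1 : ∃ π1 : Cen1 c →* M, St c z1 π1
  nn : ∃ n ∈ Cen1 c, n * x * n⁻¹ = x⁻¹

namespace GS
variable {x z c y z1 : G} {π : Cen1 x →* M} (h : GS M x z c y z1 π)
include h

theorem yc2 : y * (c * x) * y⁻¹ = c * x * x := by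
  calc _ = y * c * y⁻¹ * (y * x * y⁻¹) := by group
    _ = _ := by rw [h.yc, c1'.1 h.yC]

theorem yc3 : y * (c * x * x) * y⁻¹ = c := by
  calc _ = y * (c * x) * y⁻¹ * (y * x * y⁻¹) := by group
    _ = c * x ^ 3 := by rw [h.yc2, c1'.1 h.yC]; simp [pow_succ, mul_assoc]
    _ = c := by rw [h.e9.x3, mul_one]

theorem s2 : ∃ π2 : Cen1 (c * x) →* M, St (c * x) (y * z1 * y⁻¹) π2 :=
  let ⟨_, s⟩ := h.s1; h.yc ▸ s.conj y

theorem s3 : ∃ π3 : Cen1 (c * x * x) →* M, St (c * x * x) (y * (y * z1 * y⁻¹) * y⁻¹) π3 :=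
  let ⟨_, s⟩ := h.s2; h.yc2 ▸ s.conj y

theorem y3 : y * (y * (y * z1 * y⁻¹) * y⁻¹) * y⁻¹ = z1 := by
  obtain ⟨_, s⟩ := h.s1
  obtain ⟨_, s3⟩ := h.s3
  obtain ⟨_, s4⟩ : ∃ π4 : Cen1 c →* M, St c (y * (y * (y * z1 * y⁻¹) * y⁻¹) * y⁻¹) π4 := by
    have := s3.conj y
    rwa [h.yc3] at this
  exact (s.uniq h.zn1 s4).symm

theorem yz : y * z * y⁻¹ = z := c1'.1 (h.zc h.yC)
theorem n1 : z1 ≠ z := let ⟨_, s⟩ := h.s1; h.neq h.ch h.e9 s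
theorem n2 : y * z1 * y⁻¹ ≠ z := let ⟨_, s⟩ := h.s2; h.neq h.ch h.e9.mul s
theorem n3 : y * (y * z1 * y⁻¹) * y⁻¹ ≠ z := let ⟨_, s⟩ := h.s3; h.neq h.ch h.e9.mul.mul s
theorem n12 : y * z1 * y⁻¹ ≠ z1 :=
  let ⟨_, s⟩ := h.s1; let ⟨_, s'⟩ := h.s2; s.neq h.ch1 h.e9.mul' s'
theorem q1 : z1 * z1 = 1 := let ⟨_, s⟩ := h.s1; s.z2
theorem q2 : y * z1 * y⁻¹ * (y * z1 * y⁻¹) = 1 := let ⟨_, s⟩ := h.s2; s.z2
theorem q3 : y * (y * z1 * y⁻¹) * y⁻¹ * (y * (y * z1 * y⁻¹) * y⁻¹) = 1 := let ⟨_, s⟩ := h.s3; s.z2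

theorem c0 : Cen1 x ⊓ Cen1 c ≤ Cen1 z := inf_le_left.trans h.zc
theorem cc1 : Cen1 x ⊓ Cen1 c ≤ Cen1 z1 := let ⟨_, s⟩ := h.s1; inf_le_right.trans s.zc
theorem cc2 : Cen1 x ⊓ Cen1 c ≤ Cen1 (y * z1 * y⁻¹) := let ⟨_, s⟩ := h.s2
  fun _ hg => s.zc (c1s.1 (mul_mem (c1s.1 hg.2) (c1s.1 hg.1)))
theorem cc3 : Cen1 x ⊓ Cen1 c ≤ Cen1 (y * (y * z1 * y⁻¹) * y⁻¹) := let ⟨_, s⟩ := h.s3
  fun _ hg => s.zc (c1s.1 (mul_mem (mul_mem (c1s.1 hg.2) (c1s.1 hg.1)) (c1s.1 hg.1)))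

theorem mm {w : G} (e : Cen1 x ⊓ Cen1 c ≤ Cen1 w) : w ∈ Cen1 x ⊓ Cen1 c :=
  ⟨c1s.1 (e ⟨c1.2 rfl, h.e9.symm.cm⟩), c1s.1 (e ⟨h.e9.cm, c1.2 rfl⟩)⟩

theorem n012 : y * z1 * y⁻¹ ∉ ZZ z z1 := fun e => by
  rcases (SF.mem_sup_zp (mzp (h.c0 (h.mm h.cc1))) (h.q1 ▸ one_mem _)).1 e with e | e <;>
    rcases zp2 h.z2 e with e | e
  · exact h.zn1 (conj_eq_one_iff.1 e)
  · exact h.n2 e
  · exact h.n12 ((eq_inv_of_mul_eq_one_left e).trans (inv_eq_of_mul_eq_one_left h.q1))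
  · have e1 : y * (y * z1 * y⁻¹) * y⁻¹ * (y * z1 * y⁻¹) = z := by
      calc _ = y * (y * z1 * y⁻¹ * z1) * y⁻¹ := by group
        _ = z := by rw [e, h.yz]
    rw [← e, ← c1.1 (h.cc2 (h.mm h.cc1)), mul_left_inj] at e1
    have := h.y3
    rw [e1] at this
    exact h.n12 this

/-- the elementary group of order 8 -/
abbrev BB (z y z1 : G) : Subgroup G := ZZ z z1 ⊔ zpowers (y * z1 * y⁻¹)

theorem B_le : BB z y z1 ≤ Cen1 x ⊓ Cen1 c :=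
  sup_le (sup_le (zpowers_le.2 (h.mm h.c0)) (zpowers_le.2 (h.mm h.cc1))) (zpowers_le.2 (h.mm h.cc2))

theorem B_cen : Cen1 x ⊓ Cen1 c ≤ Cen (BB z y z1) :=
  le_cen_symm (sup_le (sup_le (zp_le_cen.2 h.c0) (zp_le_cen.2 h.cc1)) (zp_le_cen.2 h.cc2))

theorem nZZ : y * z1 * y⁻¹ ∈ Nor (ZZ z z1) :=
  msup (mzp (h.c0 (h.mm h.cc2))) (mzp (h.cc1 (h.mm h.cc2)))

theorem cB : Nat.card (BB z y z1) = 8 := by
  rw [SF.card_sup_zp h.nZZ (h.q2 ▸ one_mem _) h.n012, SF.card_sup_zp (mzp (h.c0 (h.mm h.cc1)))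
    (h.q1 ▸ one_mem _) (fun e => (zp2 h.z2 e).elim h.zn1 h.n1), Nat.card_zpowers, W.o2 h.z2 h.zn]

theorem B2 : IsPGroup 2 (BB z y z1) := IsPGroup.of_card (n := 3) h.cB

theorem cz2 : Nat.card (zpowers z) = 2 := by rw [Nat.card_zpowers, W.o2 h.z2 h.zn]

theorem D64 : Nat.card ↥(EE z ⊓ Cen1 c) ≤ 64 := by
  have n : BB z y z1 ≤ Nor (EE z ⊓ Cen1 c) :=
    ninf ((h.B_le.trans h.c0).trans (nE z)) (lnor (h.B_le.trans inf_le_right))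
  have e1 := H7.card_sup_mul_card_inf n
  have e2 := card_le_of_le (show BB z y z1 ⊓ (EE z ⊓ Cen1 c) ≤ zpowers z from fun a ha =>
    h.EC ⟨ha.2.1, (h.B_le ha.1).1⟩)
  obtain ⟨_, s⟩ := h.s1
  have e3 := s.card2 (sup_le (h.B_le.trans inf_le_right) inf_le_right)
    (h.B2.to_sup_of_normal_right' ((E2 z).to_le inf_le_left) n)
  rw [h.cz2] at e2
  rw [h.cB] at e1
  nlinarith

theorem mod3 {D : Subgroup G} (h1 : D ≤ EE z) (h2 : z ∈ D) (h3 : x ∈ Nor D) (h4 : Nat.card D ≤ 64) :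
    Nat.card D ≤ 8 ∨ Nat.card D = 32 := by
  have e := H3.card_modEq_inf_centralizer Nat.prime_three h.toSt.x3 D fun _ => cmem h3
  rw [show D ⊓ Cen1 x = zpowers z from le_antisymm ((inf_le_inf_right _ h1).trans h.EC)
    (zpowers_le.2 ⟨h2, h.zx⟩), h.cz2] at e
  obtain ⟨k, hk⟩ := H7.card_eq_pow_of_le ((E2 z).to_le h1)
  rw [hk] at e h4 ⊢
  exact num3 e h4

theorem irr {W : Subgroup G} (h1 : W ≤ EE z) (h2 : z ∈ W) (h3 : ¬ W ≤ zpowers z)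
    (nW : Cen1 x ≤ Nor W) (h4 : ∀ a ∈ W, ∀ b ∈ W, a * b * a⁻¹ * b⁻¹ ∈ zpowers z) :
    EE z ≤ W ∧ Nat.card ↥(EE z ⊓ Cen1 c) = 32 := by
  have l := card_le_of_le (inf_le_inf_right (Cen1 c) h1)
  have d := h.D64
  have xc : x ∈ Nor (Cen1 c) := le_normalizer h.e9.symm.cm
  rcases h.mod3 (inf_le_left.trans h1) (mem_inf.2 ⟨h2, (h.mm h.c0).2⟩) (minf (nW h.toSt.xC) xc)
    (l.trans d) with e | e
  swap
  · have e' := h.mod3 inf_le_left (mem_inf.2 ⟨zE h.z2, (h.mm h.c0).2⟩)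
      (minf (nE z (h.zc h.toSt.xC)) xc) d
    have e2 : Nat.card ↥(EE z ⊓ Cen1 c) = 32 := by omega
    exact ⟨h.genE h.e9 h2 nW ((SF.eq_of_le_card (inf_le_inf_right (Cen1 c) h1)
      (by omega)).ge.trans inf_le_left), e2⟩
  exfalso
  have cj : ∀ a, Nat.card ↥(W ⊓ Cen1 (y * a * y⁻¹)) = Nat.card ↥(W ⊓ Cen1 a) := fun a => by
    rw [← card_conjS y (W ⊓ Cen1 a), conjS_inf, conj_c1, mem_normalizer_iff_conjS.1 (nW h.yC)]
  have e2 := cj c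
  have e3 := cj (c * x)
  rw [h.yc] at e2
  rw [h.yc2] at e3
  have nX : ∀ X ≤ W, z ∈ X → W ≤ Nor X := fun X hX zX g hg => mnor fun k hk => by
    simpa using mul_mem (zpowers_le.2 zX (h4 g hg k (hX hk))) hk
  have z2 : z ∈ W ⊓ Cen1 (c * x) := ⟨h2, c1s.1 (h.zc h.e9.mul.cm)⟩
  have z3 : z ∈ W ⊓ Cen1 (c * x * x) := ⟨h2, c1s.1 (h.zc h.e9.mul.mul.cm)⟩
  have f1 := H7.card_sup_mul_card_inf ((inf_le_left (b := Cen1 (c * x))).trans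
    (nX _ inf_le_left z3))
  have f2 := card_le_of_le (zpowers_le.2 (mem_inf.2 ⟨z2, z3⟩))
  have f3 := H7.card_sup_mul_card_inf ((inf_le_left (b := Cen1 c)).trans
    (nX (W ⊓ Cen1 (c * x) ⊔ W ⊓ Cen1 (c * x * x)) (sup_le inf_le_left inf_le_left) (mem_sup_left z2)))
  have f4 := card_le_of_le (zpowers_le.2 (mem_inf.2 ⟨(mem_inf.2 ⟨h2, (h.mm h.c0).2⟩ :
    z ∈ W ⊓ Cen1 c), (mem_sup_left z2 : z ∈ W ⊓ Cen1 (c * x) ⊔ W ⊓ Cen1 (c * x * x))⟩))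
  have f5 := card_le_of_le (h.e9.gen (H := W ⊓ Cen1 c ⊔ (W ⊓ Cen1 (c * x) ⊔ W ⊓ Cen1 (c * x * x)))
    (h.e9.le.trans nW) ((E2 z).to_le h1) fun a ha a1 => by
      rcases h.e9.cases ha a1 with e | e | e | e <;> rw [e]
      · exact ((inf_le_inf_right _ h1).trans h.EC).trans
          (zpowers_le.2 (mem_sup_right (mem_sup_left z2)))
      · exact le_sup_left
      · exact le_sup_left.trans le_sup_right
      · exact le_sup_right.trans le_sup_right)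
  rw [h.cz2] at f2 f4
  have f6 := num1 f1 f2 (e2.le.trans e) (e3.le.trans (e2.le.trans e))
  have f8 := num1 (m := 32) f3 f4 e (by omega)
  have f7 : Nat.card W ≤ 128 := by omega
  haveI : Fact (Nat.Prime 11) := ⟨by norm_num⟩
  obtain ⟨u, hu, ou⟩ := exists_orderOf_eq_prime_mem (p := 11) (N := Cen1 x) (by
    rcases h.cardC' with e | e <;> rw [e] <;> norm_num)
  have uW : ¬ W ≤ Cen1 u := fun e => by
    rcases h.norm (inf_le_left (b := Cen W)) (ninf le_normalizer (ncen nW)) with e' | e'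
    · have := orderOf_dvd_natCard _ (e' ⟨hu, cen_iff_le.2 e⟩)
      rw [ou, h.cardZ h.zn] at this
      omega
    · exact h3 ((le_inf h1 (cen_iff_le.1 (e'.ge h.toSt.xC).2)).trans h.EC)
  have g1 := H3.card_modEq_inf_centralizer (by norm_num : Nat.Prime 11)
    (ou ▸ pow_orderOf_eq_one u) W fun _ => cmem (nW hu)
  have g2 := H7.card_lt_of_lt (inf_lt_left.2 uW)
  obtain ⟨a, ha⟩ := H7.card_eq_pow_of_le ((E2 z).to_le h1)
  obtain ⟨b, hb⟩ := H7.card_eq_pow_of_le ((E2 z).to_le ((inf_le_left (b := Cen1 u)).trans h1))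
  rw [ha, hb] at g1 g2
  exact num2 g1 g2 (ha ▸ f7)

end GS

end J4
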