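import Cfsg.Agent.J4.G1
import Cfsg.Agent.H6.Stab
import Cfsg.Agent.H7.TI

/-! `O₂(C(z))` is extraspecial; passage to the quotient. -/

set_option autoImplicit false
set_option linter.unusedSectionVars false

namespace J4
open Cfsg Subgroup FT H4 H5 GW
open scoped commutatorElement

universe u

variable {G : Type u} [Group G] [Finite G] {M : Type*} [Group M]

theorem exAut {V : Type*} [Group V] {L N : Subgroup G} (q : N →* V) (hq : Function.Surjective q)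
    (hn : L ≤ Nor N) (hk : ∀ g (hg : g ∈ L) (a : N), q a = 1 → q ⟨_, cmem (hn hg) a.2⟩ = 1) :
    ∃ σ : L →* MulAut V, ∀ (g : L) (a : N), σ g (q a) = q ⟨_, cmem (hn g.2) a.2⟩ := by
  let κ : L → N →* N := fun g =>
    { toFun := fun a => ⟨g * a * (g : G)⁻¹, cmem (hn g.2) a.2⟩
      map_one' := by ext; simp
      map_mul' := fun a b => by ext; simp [mul_assoc] }
  have hκ : ∀ g, q.ker ≤ (q.comp (κ g)).ker := fun g a ha => hk g g.2 a ha
  let φ : L → V →* V := fun g => q.liftOfSurjective hq ⟨_, hκ g⟩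
  have eφ : ∀ g a, φ g (q a) = q (κ g a) := fun g a => q.liftOfRightInverse_comp_apply _ _ _ a
  have mφ : ∀ g g' m, φ g (φ g' m) = φ (g * g') m := fun g g' m => by
    obtain ⟨a, rfl⟩ := hq m
    rw [eφ, eφ, eφ]; congr 1; ext; simp [κ, mul_assoc]
  have oφ : ∀ m, φ 1 m = m := fun m => by
    obtain ⟨a, rfl⟩ := hq m
    rw [eφ]; congr 1; ext; simp [κ]
  exact ⟨{ toFun := fun g =>
            { toFun := φ g, invFun := φ g⁻¹, left_inv := fun m => by rw [mφ, inv_mul_cancel, oφ]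
              right_inv := fun m => by rw [mφ, mul_inv_cancel, oφ], map_mul' := map_mul _ }
           map_one' := by ext m; exact oφ m
           map_mul' := fun g g' => by ext m; exact (mφ g g' m).symm }, eφ⟩

namespace GS
variable {x z c y z1 : G} {π : Cen1 x →* M} (h : GS M x z c y z1 π)
include h

theorem nz : Cen1 z ≤ Nor (zpowers z) := nzp le_rfl

theorem exE : ∃ e ∈ EE z, e ∉ zpowers z ∧ (∀ g ∈ EE z, ⁅e, g⁆ ∈ zpowers z) ∧ e ^ 2 ∈ zpowers z :=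
  H7.exists_central_mod (E2 z) le_rfl le_normalizer fun e =>
    h.xE (h.ch ⟨h.zc h.toSt.xC, cen_iff_le.2 (e.trans (zpowers_le.2 h.zx))⟩)

theorem com : (∀ a ∈ EE z, ∀ b ∈ EE z, a * b * a⁻¹ * b⁻¹ ∈ zpowers z) ∧
    Nat.card ↥(EE z ⊓ Cen1 c) = 32 := by
  let W : Subgroup G :=
    { carrier := {a | a ∈ EE z ∧ ∀ b ∈ EE z, a * b * a⁻¹ * b⁻¹ ∈ zpowers z}
      one_mem' := ⟨one_mem _, fun b _ => by simp⟩
      mul_mem' := fun {a a'} ha ha' => ⟨mul_mem ha.1 ha'.1, fun b hb => by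
        have := mul_mem (cmem (h.nz (EH z ha.1)) (ha'.2 b hb)) (ha.2 b hb)
        simpa [mul_assoc] using this⟩
      inv_mem' := fun {a} ha => ⟨inv_mem ha.1, fun b hb => by
        have := inv_mem (cmem' (h.nz (EH z ha.1)) (ha.2 b hb))
        simpa [mul_assoc] using this⟩ }
  obtain ⟨e, he, h1, h2, -⟩ := h.exE
  have := h.irr (W := W) (fun a ha => ha.1) ⟨zE h.z2, fun b hb => by rw [← c1.1 (EH z hb)]; simp⟩
    (fun l => h1 (l ⟨he, h2⟩)) (fun g hg => mnor fun a ha => ⟨cmem (nE z (h.zc hg)) ha.1,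
      fun b hb => by
        have := cmem (h.nz (h.zc hg)) (ha.2 _ (cmem' (nE z (h.zc hg)) hb))
        simpa [mul_assoc] using this⟩) fun a ha b hb => ha.2 b hb.1
  exact ⟨fun a ha => (this.1 ha).2, this.2⟩

theorem sq {a : G} (ha : a ∈ EE z) : a * a ∈ zpowers z := by
  let W : Subgroup G :=
    { carrier := {a | a ∈ EE z ∧ a * a ∈ zpowers z}
      one_mem' := ⟨one_mem _, by simp⟩
      mul_mem' := fun {a b} ha hb => ⟨mul_mem ha.1 hb.1, by
        have := mul_mem (mul_mem ha.2 (h.com.1 _ (inv_mem ha.1) _ hb.1)) hb.2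
        simpa [mul_assoc] using this⟩
      inv_mem' := fun {a} ha => ⟨inv_mem ha.1, by simpa using inv_mem ha.2⟩ }
  obtain ⟨e, he, h1, -, h2⟩ := h.exE
  exact ((h.irr (W := W) (fun a ha => ha.1) ⟨zE h.z2, by simp [h.z2]⟩
    (fun l => h1 (l ⟨he, pow_two e ▸ h2⟩)) (fun g hg => mnor fun a ha =>
      ⟨cmem (nE z (h.zc hg)) ha.1, by simpa [mul_assoc] using cmem (h.nz (h.zc hg)) ha.2⟩)
    fun a ha b hb => h.com.1 a ha.1 b hb.1).1 ha).2

theorem z1E : z1 ∉ EE z := fun e => (zp2 h.z2 (h.EC ⟨e, (h.mm h.cc1).1⟩)).elim h.zn1 h.n1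

theorem nab : ¬ EE z ≤ Cen (EE z) := fun ab => by
  have cm : ∀ {a b}, a ∈ EE z → b ∈ EE z → a * b = b * a := fun ha hb => cen.1 (ab ha) _ hb
  let W : Subgroup G :=
    { carrier := {a | a ∈ EE z ∧ a * a = 1}
      one_mem' := ⟨one_mem _, by simp⟩
      mul_mem' := fun {a b} ha hb => ⟨mul_mem ha.1 hb.1, by
        rw [mul_assoc, ← mul_assoc b, ← cm ha.1 hb.1, mul_assoc, hb.2, mul_one, ha.2]⟩
      inv_mem' := fun {a} ha => ⟨inv_mem ha.1, by rw [← mul_inv_rev, ha.2, inv_one]⟩ }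
  obtain ⟨e, he, h1, -, -⟩ := h.exE
  have xz := h.zc h.toSt.xC
  have he' := cmem (nE z xz) he
  have := (h.irr (W := W) (fun a ha => ha.1) ⟨zE h.z2, h.z2⟩
    (fun l => h1 (h.EC ⟨he, h.fixz h.toSt.x3 xz (EH z he) (l ⟨mul_mem he' (inv_mem he), ?_⟩)⟩))
    (fun g hg => mnor fun a ha => ⟨cmem (nE z (h.zc hg)) ha.1, by
      simp [mul_assoc, ← mul_assoc a, ha.2]⟩) fun a ha b hb => h.com.1 a ha.1 b hb.1).1
  · obtain ⟨_, s⟩ := h.s1
    exact s.no32 inf_le_right (fun a ha => (this ha.1).2) (fun e => h.z1E e.1) h.com.2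
  · rw [mul_assoc _ e⁻¹, ← mul_assoc e⁻¹, cm (inv_mem he) he']
    calc _ = x * (e * e) * x⁻¹ * (e * e)⁻¹ := by group
      _ = 1 := by rw [cen.1 (cen_zp z ▸ xz) _ (h.sq he)]; group

theorem ctr : EE z ⊓ Cen (EE z) ≤ zpowers z := by
  by_contra e
  have n := h.zc.trans (nE z)
  exact h.nab ((h.irr inf_le_left ⟨zE h.z2, cen_iff_le.2 (EH z)⟩ e (ninf n (ncen n))
    fun a ha b hb => h.com.1 a ha.1 b hb.1).1.trans inf_le_right)

theorem cnt : Cen1 c ⊓ Cen1 z ≤ (Nor (zpowers x) ⊓ Cen1 c) ⊔ (EE z ⊓ Cen1 c) ∧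
    Nat.card ↥(Cen1 x ⊓ Cen1 c) ≤ 72 := by
  obtain ⟨_, s⟩ := h.s1
  obtain ⟨n, nc, nx⟩ := h.nn
  have nN : n ∈ Nor (zpowers x) := mem_nor3 (nx ▸ inv_mem (mem_zpowers x))
  have e1 := Nat.le_of_dvd (by rw [s.cardZ h.zn1]; norm_num) (s.cen_dvd (h.mm h.c0).2 h.z2
    fun e => (s.Z2 e (k := 1) (by simp [pow_two, h.z2])).elim h.zn fun e => h.n1 e.symm)
  rw [s.cardZ h.zn1] at e1
  have AB : ZZ x c ≤ Cen1 x ⊓ Cen1 c := le_inf h.e9.le h.e9.le'
  have e2 := H7.card_sup_mul_card_inf (cnor (AB.trans h.B_cen))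
  rw [inf_eq_bot_of_coprime' (by rw [h.e9.card, h.cB]; norm_num), h.e9.card, h.cB, card_bot] at e2
  have e3 := card_le_of_le (sup_le AB h.B_le)
  have e4 := card_le_of_le (show (Cen1 x ⊓ Cen1 c) ⊔ zpowers n ≤ Nor (zpowers x) ⊓ Cen1 c from
    sup_le (inf_le_inf_right _ (nzp le_rfl)) (zpowers_le.2 ⟨nN, nc⟩))
  rw [SF.card_sup_zp (minf (cen_zp x ▸ mcen nN) (le_normalizer nc))
    (mem_inf.2 ⟨sq_c1 h.ox nN, mul_mem nc nc⟩) fun e => h.xinv (nx.symm.trans (c1'.1 e.1))] at e4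
  have WH : Nor (zpowers x) ⊓ Cen1 c ≤ Cen1 z := inf_le_left.trans (h.NH h.zn)
  have e5 := H7.card_sup_mul_card_inf (ninf (WH.trans (nE z)) (lnor inf_le_right))
  have e6 := card_le_of_le (show (Nor (zpowers x) ⊓ Cen1 c) ⊓ (EE z ⊓ Cen1 c) ≤ zpowers z from
    fun a ha => h.EN ha.2.1 ha.1.1)
  have l : (Nor (zpowers x) ⊓ Cen1 c) ⊔ (EE z ⊓ Cen1 c) ≤ Cen1 c ⊓ Cen1 z :=
    sup_le (le_inf inf_le_right WH) (le_inf inf_le_right (inf_le_left.trans (EH z)))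
  have e7 := card_le_of_le l
  rw [h.com.2] at e5
  rw [h.cz2] at e6
  have e8 := e5 ▸ Nat.mul_le_mul_left _ e6
  exact ⟨(SF.eq_of_le_card l (by omega)).ge, by omega⟩

theorem ttt : z1 * (y * z1 * y⁻¹) * (y * (y * z1 * y⁻¹) * y⁻¹) ∈ zpowers z := by
  have m3 := h.mm h.cc3
  have hB : y * (y * z1 * y⁻¹) * y⁻¹ ∈ BB z y z1 := by
    by_contra e
    have d := card_dvd_of_le (sup_le h.B_le (zpowers_le.2 m3))
    rw [SF.card_sup_zp (mcnor (h.B_cen m3)) (h.q3 ▸ one_mem _) e, h.cB] at d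
    have d' := card_dvd_of_le (le_inf h.e9.le h.e9.le')
    rw [h.e9.card] at d'
    have := Nat.le_of_dvd Nat.card_pos (Nat.Coprime.mul_dvd_of_dvd_of_dvd (by norm_num) d d')
    have := h.cnt.2
    omega
  have y3 := h.y3
  have n012 := h.n012
  have n12 := h.n12
  have n3 := h.n3
  have c12 := c1.1 (h.cc2 (h.mm h.cc1))
  have c13 := c1.1 (h.cc3 (h.mm h.cc1))
  have c23 := c1.1 (h.cc3 (h.mm h.cc2))
  have q1 := h.q1
  have q2 := h.q2
  have hz := SF.mem_sup_zp (g := y * (y * z1 * y⁻¹) * y⁻¹) h.nZZ (h.q2 ▸ one_mem _)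
  have nz := fun g => SF.mem_sup_zp (g := g) (mzp (h.c0 (h.mm h.cc1))) (h.q1 ▸ one_mem _)
  have yn : ∀ g, y * g * y⁻¹ ∈ zpowers z ↔ g ∈ zpowers z := fun g =>
    (mem_normalizer_iff.1 (h.nz (h.zc h.yC)) g).symm
  rcases hz.1 hB with e | e <;> rcases (nz _).1 e with e | e
  · rw [yn, yn] at e
    exact ((zp2 h.z2 e).elim h.zn1 h.n1).elim
  · rw [← yn, show ∀ a, y * (a * z1) * y⁻¹ = y * a * y⁻¹ * (y * z1 * y⁻¹) from fun a => by group,
      y3, c12] at e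
    exact (n012 ((nz _).2 (Or.inr e))).elim
  · rw [show ∀ a, y * a * y⁻¹ * (y * z1 * y⁻¹) = y * (a * z1) * y⁻¹ from fun a => by group,
      yn] at e
    exact (n012 ((nz _).2 (Or.inr e))).elim
  · rwa [← c23, mul_assoc, ← c13, ← mul_assoc, ← c12] at e

end GS

end J4
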