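import Cfsg.Agent.J4.G2
import Cfsg.Prelude.Def_JankoFourType

/-! The Janko-four-type conditions. -/

set_option autoImplicit false
set_option linter.unusedSectionVars false

namespace J4
open Cfsg Subgroup FT H4 H5 GW
open scoped commutatorElement

universe u

variable {G : Type u} [Group G] [Finite G] {M : Type*} [Group M]

namespace GS
variable {x z c y z1 : G} {π : Cen1 x →* M} (h : GS M x z c y z1 π)
include h

theorem exV : ∃ (V : Type u) (_ : CommGroup V) (_ : Finite V) (q : EE z →* V)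
    (σ : Cen1 z →* MulAut V), Function.Surjective q ∧ q.ker = (zpowers z).subgroupOf (EE z) ∧
      σ.ker = (EE z).subgroupOf (Cen1 z) ∧
        ∀ (g : Cen1 z) (a : EE z), σ g (q a) = q ⟨_, cmem (nE z g.2) a.2⟩ := by
  obtain ⟨V, iV, _, q, hq, hk⟩ := exists_hom_ker_eq ((EH z).trans h.nz)
  have k1 : ∀ {a : EE z}, q a = 1 ↔ (a : G) ∈ zpowers z := map_eq_one_iff_of_ker hk
  obtain ⟨σ, hσ⟩ := exAut q hq (nE z) fun g hg a ha => k1.2 (cmem (h.nz hg) (k1.1 ha))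
  have k2 : ∀ g : Cen1 z, σ g = 1 ↔ ∀ a ∈ EE z, g * a * (g : G)⁻¹ * a⁻¹ ∈ zpowers z := fun g => by
    refine ⟨fun e a ha => (k1 (a := ⟨_, cmem (nE z g.2) ha⟩ * (⟨a, ha⟩ : EE z)⁻¹)).1 ?_,
      fun e => ?_⟩
    · rw [map_mul, ← hσ g ⟨a, ha⟩, e]; simp
    · ext m
      obtain ⟨a, rfl⟩ := hq m
      have := (k1 (a := ⟨_, cmem (nE z g.2) a.2⟩ * a⁻¹)).2 (e a a.2)
      rw [map_mul, map_inv, mul_inv_eq_one] at this
      exact (hσ g a).trans this
  refine ⟨V, { iV with mul_comm := fun a b => ?_ }, ‹_›, q, σ, hq, hk, le_antisymm ?_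
    fun g hg => (k2 g).2 (h.com.1 _ hg), hσ⟩
  · obtain ⟨a, rfl⟩ := hq a
    obtain ⟨b, rfl⟩ := hq b
    have := (k1 (a := a * b * a⁻¹ * b⁻¹)).2 (h.com.1 _ a.2 _ b.2)
    simpa [mul_inv_eq_iff_eq_mul] using this
  · have : σ.ker ≤ pCore 2 (Cen1 z) := le_pCore inferInstance fun g => by
      have g2 : (g : G) * g ∈ EE z := h.ch ⟨mul_mem g.1.2 g.1.2, cen.2 fun a ha => by
        have e := (k2 g).1 g.2 a ha
        have e1 := cen.1 ((cen_zp z).ge g.1.2) _ e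
        generalize hw : (g : G) * a * (g : G)⁻¹ * a⁻¹ = w at e e1
        have e3 : w * w = 1 := (zp2 h.z2 e).elim (fun e' => by rw [e', mul_one])
          fun e' => by rw [e', h.z2]
        have e4 : (g : G) * a = w * a * g := by rw [← hw]; group
        rw [mul_assoc, e4, ← mul_assoc, ← mul_assoc, e1, mul_assoc w, e4, ← mul_assoc, ← mul_assoc,
          e3, one_mul, mul_assoc]⟩
      obtain ⟨k, hk⟩ := H7.pow_eq_one_of_mem (E2 z) g2
      exact ⟨k + 1, Subtype.ext (Subtype.ext (by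
        simpa [pow_succ', pow_mul, pow_two] using hk))⟩
    exact fun g hg => mem_map_of_mem _ (this hg)

theorem exK : Nat.card (EE z) = 2 ^ 13 ∧ frattini (EE z) ≤ (zpowers z).subgroupOf (EE z) ∧
    ∃ Θ : Cen1 z →* MulAut M, Function.Surjective Θ ∧
      Θ.ker = (EE z ⊔ zpowers x).subgroupOf (Cen1 z) := by
  obtain ⟨V, _, _, q, σ, hq, hk, hs, hσ⟩ := h.exV
  let f := σ.rangeRestrict
  have hf : Function.Surjective f := σ.rangeRestrict_surjective
  have fk : f.ker = (EE z).subgroupOf (Cen1 z) := σ.ker_rangeRestrict.trans hs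
  have k1 : ∀ {a : EE z}, q a = 1 ↔ (a : G) ∈ zpowers z := map_eq_one_iff_of_ker hk
  have k2 : ∀ {a : Cen1 z}, f a = 1 ↔ (a : G) ∈ EE z := map_eq_one_iff_of_ker fk
  have act : ∀ (g : Cen1 z) (a : EE z), f g • q a = q ⟨_, cmem (nE z g.2) a.2⟩ := hσ
  have xH := h.zc h.toSt.xC
  have cH := h.zc h.e9.cm
  have yH := h.zc h.yC
  have tH := h.c0 (h.mm h.cc1)
  have cop : ∀ {a : G}, orderOf a = 3 → (orderOf a).Coprime (Nat.card ↥(Cen1 z ⊓ EE z)) :=
    fun e => by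
      obtain ⟨k, hk⟩ := H7.card_eq_pow_of_le ((E2 z).to_le (inf_le_right (a := Cen1 z)))
      rw [e, hk]; exact Nat.Coprime.pow_right k (by norm_num)
  have imc : ∀ {a : G} (ha : a ∈ Cen1 z), orderOf a = 3 →
      im f (Cen1 z ⊓ Cen1 a) = Cen1 (f ⟨a, ha⟩) := fun ha e => by
    rw [im_inf_centralizer_singleton fk ha (le_normalizer ha) (cop e), im_self hf, top_inf_eq]
  have mc : ∀ {a b : G} (ha : a ∈ Cen1 z) (hb : b ∈ Cen1 z), a ∈ Cen1 b →
      f ⟨a, ha⟩ ∈ Cen1 (f ⟨b, hb⟩) := fun ha hb e =>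
    im_centralizer_singleton_le hb (mem_im_of_mem ha e)
  have imC : im f (Cen1 x) = Cen1 (f ⟨x, xH⟩) := by rw [← imc xH h.ox, inf_of_le_right h.zc]
  let f0 : Cen1 x →* Cen1 (f ⟨x, xH⟩) :=
    (f.comp (inclusion h.zc)).codRestrict _ fun a => mc _ xH a.2
  have hf0 : Function.Surjective f0 := fun b => by
    obtain ⟨a, ha, e⟩ := mem_im.1 (imC.ge b.2)
    exact ⟨⟨a, ha⟩, Subtype.ext e⟩
  have zpx : ∀ {a : G} (ha : a ∈ Cen1 x), f ⟨a, h.zc ha⟩ ∈ zpowers (f ⟨x, xH⟩) ↔ a ∈ ZZ x z :=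
    fun {a} ha => by
      rw [← im_zpowers, ← zpowers_le, ← im_zpowers, im_le_im_iff fk (EH z) (zpowers_le.2 (h.zc ha))
        (zpowers_le.2 xH), zpowers_le]
      refine ⟨fun e => ?_, fun e => sup_le_sup_left (zpowers_le.2 (zE h.z2)) _ e⟩
      obtain ⟨n, hn, b, hb, rfl⟩ := (H7.mem_sup_of_le_normalizer_right
        (zpowers_le.2 (nE z xH))).1 e
      exact mul_mem_sup hn (h.EC ⟨hb, (mul_mem_cancel_left (h.ZC (mem_sup_left hn))).1 ha⟩)
  have eZ : ZZ (f ⟨x, xH⟩) 1 = zpowers (f ⟨x, xH⟩) := by rw [ZZ, zpowers_one_eq_bot, sup_bot_eq]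
  let π' : Cen1 (f ⟨x, xH⟩) →* M := f0.liftOfSurjective hf0 ⟨π, fun a ha => h.pi1.2
    ((zpx a.2).1 (by rw [show f ⟨a, h.zc a.2⟩ = 1 from congrArg Subtype.val ha]; exact one_mem _))⟩
  have eπ : ∀ a, π' (f0 a) = π a := fun a => f0.liftOfRightInverse_comp_apply _ _ _ a
  have p3 : ∀ {a : G} (ha : a ∈ Cen1 z), a ^ 3 = 1 → f ⟨a, ha⟩ ^ 3 = 1 := fun ha e => by
    rw [← map_pow]; exact k2.2 (by simp [e])
  have ox : orderOf (f ⟨x, xH⟩) = 3 := ord3 (p3 xH h.toSt.x3) fun e => h.xE (k2.1 e)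
  have st : St (f ⟨x, xH⟩) 1 π' := ⟨h.mf, ox, mul_one 1, one_mem _, fun _ _ => c1.2 (by simp),
    fun m => let ⟨a, e⟩ := h.surj m; ⟨f0 a, (eπ a).trans e⟩, by
      ext b
      obtain ⟨a, rfl⟩ := hf0 b
      rw [MonoidHom.mem_ker, eπ, h.pi1, mem_subgroupOf, eZ, ← zpx a.2]; rfl,
    by rw [← imC, ← im_commutator h.zc h.zc, h.perf]⟩
  have fxa : ∀ {a : G} (ha : a ∈ Cen1 z), a ^ 3 = 1 →
      Fx V (f ⟨a, ha⟩) = im q (EE z ⊓ Cen1 a) := fun {a} ha a3 => by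
    ext v
    obtain ⟨e, rfl⟩ := hq v
    rw [mFx, act]
    refine ⟨fun e' => mem_im_of_mem e.2 ⟨e.2, h.fixz a3 ha (EH z e.2)
      ((k1 (a := ⟨_, cmem (nE z ha) e.2⟩ * e⁻¹)).1 (by rw [map_mul, e']; simp))⟩, fun e' => ?_⟩
    obtain ⟨d, hd, e'⟩ := mem_im.1 e'
    rw [← act, ← e', act]
    congr 1
    exact Subtype.ext (c1'.1 (c1s.1 hd.2))
  have nN : ∀ {a : G} (ha : a ∈ Cen1 z), a ∈ Nor (zpowers x) →
      f ⟨a, ha⟩ ∈ Nor (zpowers (f ⟨x, xH⟩)) := fun {a} ha e => by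
    rw [← im_zpowers]
    exact im_le_normalizer (A := zpowers a) (zpowers_le.2 e) (mem_im_of_mem ha (mem_zpowers _))
  have ks : KS V (f ⟨x, xH⟩) (f ⟨c, cH⟩) (f ⟨y, yH⟩) (f ⟨z1, tH⟩) π' :=
    { toSt := st
      fa := fun g hg => Subtype.ext (MulEquiv.ext hg)
      v2 := fun v => by
        obtain ⟨e, rfl⟩ := hq v
        rw [← map_mul]; exact k1.2 (h.sq e.2)
      fx := fun v hv => by
        obtain ⟨d, hd, rfl⟩ := mem_im.1 ((fxa xH h.toSt.x3).le hv)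
        exact k1.2 (h.EC hd)
      e9 := ⟨ox, p3 cH h.e9.c3, fun e => h.e9.cx (h.Z3 ((zpx h.e9.cm).1 e) (odd3 (k := 1) h.e9.c3)),
        mc cH xH h.e9.cm⟩
      yC := mc yH xH h.yC
      yc := by
        rw [← map_inv, ← map_mul, ← map_mul, ← map_mul]; exact congrArg f (Subtype.ext h.yc)
      D := by
        have := card_eq_card_im_mul hk (inf_le_left (b := Cen1 c))
        rw [h.com.2, inf_of_le_right (zpowers_le.2 (mem_inf.2 ⟨zE h.z2, (h.mm h.c0).2⟩)),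
          h.cz2] at this
        rw [fxa cH h.e9.c3]; omega
      cen := by
        rw [← imc cH h.e9.oc, inf_comm]
        refine (im_mono h.cnt.1).trans ?_
        rw [im_sup (inf_le_left.trans (h.NH h.zn)) (inf_le_left.trans (EH z)),
          (im_eq_bot_iff fk (inf_le_left.trans (EH z))).2 inf_le_left, sup_bot_eq]
        intro b hb
        obtain ⟨a, ha, rfl⟩ := mem_im.1 hb
        exact nN a.2 ha.1
      it := ⟨fun e => h.z1E (k2.1 e), by rw [← map_mul]; exact k2.2 (by simp [h.q1])⟩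
      tx := mc tH xH (h.mm h.cc1).1
      tc := mc tH cH (h.mm h.cc1).2
      tD := fun v hv => by
        obtain ⟨d, hd, rfl⟩ := mem_im.1 ((fxa cH h.e9.c3).le hv)
        obtain ⟨_, s⟩ := h.s1
        rw [mFx, act]
        congr 1
        exact Subtype.ext (c1'.1 (c1s.1 (s.zc hd.2)))
      ttt := by
        simp only [← map_inv, ← map_mul]
        exact k2.2 (zpowers_le.2 (zE h.z2) h.ttt) }
  obtain ⟨n, nc, nx⟩ := h.nn
  have nH := h.NH h.zn (mem_nor3 (nx ▸ inv_mem (mem_zpowers x)))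
  obtain ⟨θ, hθ, θk⟩ := st.theta (n := f ⟨n, nH⟩) ks.main (by
    rw [← map_inv, ← map_inv, ← map_mul, ← map_mul]; exact congrArg f (Subtype.ext nx))
  refine ⟨?_, (frattini_le_comap_frattini_of_surjective hq).trans ?_, θ.comp f, hθ.comp hf, ?_⟩
  · have := card_eq_card_im_mul hk le_rfl
    rw [im_self hq, card_top, ks.cV, inf_of_le_right (zpowers_le.2 (zE h.z2)), h.cz2] at this
    rw [this]; norm_num
  · have : frattini V = ⊥ := by
      by_contra e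
      obtain ⟨a, ha⟩ := H7.exists_sq_ne_one_of_frattini e
      exact ha (by rw [pow_two, ks.v2])
    rw [this, MonoidHom.comap_bot, hk]
  · rw [← MonoidHom.comap_ker, θk, ← im_zpowers, ← pre_subgroupOf,
      pre_im fk (EH z) (zpowers_le.2 xH), sup_comm]

theorem final : IsExtraspecial 2 (EE z) ∧ Nat.card (EE z) = 2 ^ 13 ∧
    (∃ N : Subgroup G, EE z ≤ N ∧ N ≤ Cen1 z ∧ Cen1 z ≤ Nor N ∧ Nat.card N = 3 * Nat.card (EE z) ∧
      (∃ _ : (N.subgroupOf (Cen1 z)).Normal, Nonempty (Cen1 z ⧸ N.subgroupOf (Cen1 z) ≃* MulAut M)) ∧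
        zpowers x ≤ N) ∧ Nat.card (zpowers x) = 3 ∧ EE z ⊓ Cen (zpowers x) = zpowers z ∧
      Cen1 z ⊓ Nor (zpowers x) ≠ Cen1 z ⊓ Cen (zpowers x) ∧
        zpowers x ≤ ⁅Cen1 z ⊓ Cen (zpowers x), Cen1 z ⊓ Cen (zpowers x)⁆ := by
  obtain ⟨e1, e2, Θ, hΘ, e3⟩ := h.exK
  have xH := h.zc h.toSt.xC
  have zE' := zpowers_le.2 (zE h.z2)
  have c2 : Nat.card ((zpowers z).subgroupOf (EE z)) = 2 := by
    rw [Nat.card_congr (subgroupOfEquivOfLe zE').toEquiv, h.cz2]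
  have ce : center (EE z) = (zpowers z).subgroupOf (EE z) := le_antisymm
    (fun a ha => h.ctr ⟨a.2, cen.2 fun b hb =>
      (congrArg Subtype.val (mem_center_iff.1 ha ⟨b, hb⟩)).symm⟩)
    fun a ha => mem_center_iff.2 fun b => Subtype.ext (cen.1 (cen_zp z ▸ EH z b.2) _ ha)
  have l1 : commutator (EE z) ≤ frattini (EE z) := le_sup_left.trans (H6.phiS_le_frattini (E2 z))
  have l2 : (zpowers z).subgroupOf (EE z) ≤ commutator (EE z) := by
    refine (SF.eq_of_le_card (l1.trans e2) ?_).ge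
    rw [c2]
    refine (one_lt_card_iff_ne_bot _).2 fun e => h.nab fun a ha => cen.2 fun b hb => ?_
    exact congrArg Subtype.val (commutatorElement_eq_one_iff_mul_comm.1 (mem_bot.1 (e.le
      (commutator_mem_commutator (mem_top (⟨a, ha⟩ : EE z)) (mem_top ⟨b, hb⟩)))))
  have l3 : EE z ⊔ zpowers x ≤ Cen1 z := sup_le (EH z) (zpowers_le.2 xH)
  have nn : ((EE z ⊔ zpowers x).subgroupOf (Cen1 z)).Normal := e3 ▸ inferInstance
  obtain ⟨n, nc, nx⟩ := h.nn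
  have nN := mem_nor3 (nx ▸ inv_mem (mem_zpowers x))
  rw [cen_zp, inf_of_le_right h.zc, h.perf]
  exact ⟨⟨⟨E2 z, ce ▸ le_antisymm e2 (l2.trans l1), ce ▸ le_antisymm (l1.trans e2) l2⟩, ce ▸ c2⟩,
    e1, ⟨_, le_sup_left, l3, (normal_subgroupOf_iff_le_normalizer l3).1 nn, by
      rw [H7.card_sup_zpowers (p := 3) (nE z xH) h.xE (h.toSt.x3 ▸ one_mem _), mul_comm],
      ⟨nn, ⟨(QuotientGroup.quotientMulEquivOfEq e3.symm).trans
        (QuotientGroup.quotientKerEquivOfSurjective Θ hΘ)⟩⟩, le_sup_right⟩,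
    by rw [Nat.card_zpowers, h.ox], le_antisymm h.EC (le_inf zE' (zpowers_le.2 h.zx)),
    fun e => h.xinv (nx.symm.trans (c1'.1 (e.le ⟨h.NH h.zn nN, nN⟩))), zpowers_le.2 h.toSt.xC⟩

end GS

theorem GS.janko {x z c y z1 : G} {π : Cen1 x →* Spor.M22} (h : GS Spor.M22 x z c y z1 π) :
    IsOfJankoFourType G :=
  let ⟨e1, e2, e3⟩ := h.final
  ⟨z, zpowers x, W.o2 h.z2 h.zn, e1, e2, h.ch, e3⟩

theorem St.exc {x z : G} {π : Cen1 x →* M} (h : St x z π) (S : Sylow 3 G) (g : G)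
    (hng : conjS g ((center S).map (S : Subgroup G).subtype) ≤ S)
    (hne : conjS g ((center S).map (S : Subgroup G).subtype) ≠ (center S).map (S : Subgroup G).subtype) :
    ∃ k, E9 x (k * x * k⁻¹) := by
  obtain ⟨P, hP⟩ := exists_isSylowOf 3 (Cen1 x)
  have xP := h.xP hP
  have zP : P ⊓ Cen P = zpowers x := le_antisymm (fun a ha => by_contra fun e => by
    obtain ⟨y, hy, e⟩ := h.step3 hP ha.1 e
    rw [← cen.1 ha.2 y hy, mul_inv_cancel_right, left_eq_mul] at e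
    exact h.x1 e) (zpowers_le.2 ⟨xP, cen_iff_le.2 hP.le⟩)
  have hP' : IsSylowOf 3 P ⊤ := IsSylowOf.of_normalizer (isSylowOf_of_maximal
    (le_inf le_top le_normalizer) hP.isPGroup fun R hR h1 h2 => (hP.eq_of_le hR h1 fun r hr =>
      h.odd_c (zP ▸ minf (h2 hr).2 (mcen (h2 hr).2))
        (odd3 (H7.pow_eq_one_of_mem hR hr).choose_spec)).le)
  obtain ⟨k, -, hk⟩ := hP'.exists_conj (isSylowOf_top S)
  have e : (center S).map (S : Subgroup G).subtype = zpowers (k * x * k⁻¹) := by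
    have : (center S).map (S : Subgroup G).subtype = (S : Subgroup G) ⊓ Cen S := by
      ext a
      constructor
      · rintro ⟨a, ha, rfl⟩
        exact ⟨a.2, cen.2 fun b hb => (congrArg Subtype.val (mem_center_iff.1 ha ⟨b, hb⟩)).symm⟩
      · exact fun ha => ⟨⟨a, ha.1⟩, mem_center_iff.2 fun b => Subtype.ext (cen.1 ha.2 b b.2).symm, rfl⟩
    rw [this, ← hk]
    unfold Cen
    rw [← conjS_centralizer, ← conjS_inf, zP, conjS, MonoidHom.map_zpowers]; rfl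
  rw [e, conjS, MonoidHom.map_zpowers] at hng hne
  rw [← hk, zpowers_le, mem_conjS] at hng
  have e1 : k⁻¹ * (MulAut.conj g).toMonoidHom (k * x * k⁻¹) * k = k⁻¹ * g * k * x * (k⁻¹ * g * k)⁻¹ := by
    simp [mul_assoc]
  refine ⟨k⁻¹ * g * k, h.ox, by rw [conj_pow, h.x3]; simp, fun e' => hne ?_, hP.le (e1 ▸ hng)⟩
  refine SF.eq_of_le_card (zpowers_le.2 ?_) (by simp [Nat.card_zpowers, oconj])
  have := mem_map_of_mem (MulAut.conj k).toMonoidHom e'
  rw [MonoidHom.map_zpowers] at this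
  simpa [mul_assoc] using this

theorem St.gs {x z k : G} {π : Cen1 x →* M} (h : St x z π) (zn : z ≠ 1) (ch : Ch z)
    (e9 : E9 x (k * x * k⁻¹)) : ∃ y, GS M x z (k * x * k⁻¹) y (k * z * k⁻¹) π := by
  obtain ⟨y, hy, e⟩ := h.step e9.cm e9.c3 e9.cx
  refine ⟨y, h, zn, fun e => zn (conj_eq_one_iff.1 e), ch, ch.conj k, e9, hy, e, h.conj k, ?_⟩
  obtain ⟨l, hl, el⟩ := h.conj3 e9.cm e9.c3 e9.cx (inv_mem e9.cm) (by rw [inv_pow, e9.c3, inv_one])
    fun e => e9.cx (inv_mem_iff.1 e)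
  have e1 : k⁻¹ * l * k * x * (k⁻¹ * l * k)⁻¹ = x⁻¹ := by
    calc _ = k⁻¹ * (l * (k * x * k⁻¹) * l⁻¹) * k := by group
      _ = _ := by rw [el]; group
  generalize k⁻¹ * l * k = n at e1
  generalize k * x * k⁻¹ = c at e9
  have nN := mem_nor3 (e1 ▸ inv_mem (mem_zpowers x))
  obtain ⟨m, hm, em⟩ := h.conj3 e9.cm e9.c3 e9.cx (cmem (cen_zp x ▸ mcen nN) e9.cm)
    (by rw [conj_pow, e9.c3]; simp) fun e => e9.cx ((mem_normalizer_iff.1 nN c).2 e)
  refine ⟨m⁻¹ * n, c1'.2 ?_, ?_⟩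
  · calc _ = m⁻¹ * (n * c * n⁻¹) * m := by group
      _ = c := by rw [← em]; group
  · calc _ = m⁻¹ * (n * x * n⁻¹) * m := by group
      _ = (m⁻¹ * x * m⁻¹⁻¹)⁻¹ := by rw [e1]; group
      _ = _ := by rw [c1'.1 (inv_mem hm)]

theorem ch_of {z : G} (h : IsCharacteristicTwoType G) (z2 : z * z = 1) (z1 : z ≠ 1) : Ch z := by
  have e : Nor (zpowers z) = Cen1 z := le_antisymm (fun g hg => c1'.2
    ((zp2 z2 (cmem hg (mem_zpowers z))).resolve_left fun e => z1 (conj_eq_one_iff.1 e))) (nzp le_rfl)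
  have := h.2 _ (pg2 z2) (zpowers_ne_bot.2 z1)
  change IsOfCharacteristicTwo (Nor (zpowers z)) at this
  rw [e] at this
  exact fun g hg => mem_map_of_mem _ (this (x := ⟨g, hg.1⟩) fun a ha =>
    Subtype.ext (hg.2 _ (mem_map_of_mem _ ha)))

theorem st_of {x : G} (hx : orderOf x = 3) (hperf : ⁅(⊤ : Subgroup (Cen1 x)), (⊤ : Subgroup (Cen1 x))⁆ = ⊤)
    (hZc : Nat.card (center (Cen1 x)) = 6) (mf : MF M) (e : Cen1 x ⧸ center (Cen1 x) ≃* M) :
    ∃ z ≠ 1, ∃ π : Cen1 x →* M, St x z π := by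
  obtain ⟨z, hz, oz⟩ := exists_orderOf_eq_prime_mem (p := 2) (N := center (Cen1 x)) (by omega)
  have oz' : orderOf (z : G) = 2 := by rwa [orderOf_coe]
  have l : ZZ x z ≤ Cen1 x := sup_le (zpowers_le.2 (c1.2 rfl)) (zpowers_le.2 z.2)
  refine ⟨z, ine oz', e.toMonoidHom.comp (QuotientGroup.mk' _), mf, hx, ii oz', z.2,
    fun g hg => c1.2 (congrArg Subtype.val (mem_center_iff.1 hz ⟨g, hg⟩)),
    e.surjective.comp (QuotientGroup.mk'_surjective _), ?_, ?_⟩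
  · rw [MonoidHom.ker_comp_of_injective _ _ e.injective, QuotientGroup.ker_mk']
    refine (SF.eq_of_le_card (fun a ha => mem_center_iff.2 fun g => Subtype.ext ?_) ?_).symm
    · exact cen.1 (le_cen_symm (sup_le (zp_le_cen.2 le_rfl) (zp_le_cen.2 fun g hg =>
        c1.2 (congrArg Subtype.val (mem_center_iff.1 hz ⟨g, hg⟩)))) g.2) _ ha
    · rw [Nat.card_congr (subgroupOfEquivOfLe l).toEquiv, hZc, SF.card_sup_zp (mzp z.2)
        (ii oz' ▸ one_mem _) (not_mem_odd (by rw [Nat.card_zpowers, hx]; decide) oz'),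
        Nat.card_zpowers, hx]
  · have := congrArg (map (Cen1 x).subtype) hperf
    rwa [map_commutator, ← MonoidHom.range_eq_map, range_subtype] at this

end J4
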