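import Cfsg.Agent.J4.V

/-! The subgroup of order 3 is normal. -/

set_option autoImplicit false
set_option linter.unusedSectionVars false

namespace J4
open Cfsg Subgroup FT H4 H5 GW
open scoped commutatorElement

variable {K : Type*} [Group K] {V : Type*} [CommGroup V] [MulDistribMulAction K V]
  {M : Type*} [Group M]

theorem U_smul {g t : K} (h : g ∈ Cen1 t) {v : V} (hv : v ∈ (ph V t).range) :
    g • v ∈ (ph V t).range := by
  obtain ⟨w, rfl⟩ := hv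
  exact ⟨_, (ph_smul h w).symm⟩

variable (V) in
/-- the action on `[V, t]` -/
def psi (t : K) : Cen1 t →* MulAut (ph V t).range where
  toFun g :=
    { toFun := fun u => ⟨(g : K) • (u : V), U_smul g.2 u.2⟩
      invFun := fun u => ⟨(g : K)⁻¹ • (u : V), U_smul (inv_mem g.2) u.2⟩
      left_inv := fun u => by simp
      right_inv := fun u => by simp
      map_mul' := fun a b => by simp }
  map_one' := by ext; simp
  map_mul' a b := by ext; simp [mul_smul]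

namespace KS
variable [Finite K] [Finite V] {x c y t : K} {π : Cen1 x →* M} (h : KS V x c y t π)

/-- the centralizer of `C_V(t) / [V, t]` -/
def L : Subgroup K where
  carrier := {g | g ∈ Cen1 t ∧ ∀ v ∈ Fx V t, v * g • v ∈ (ph V t).range}
  one_mem' := ⟨one_mem _, fun v _ => by rw [one_smul, h.v2]; exact one_mem _⟩
  mul_mem' := fun {a b} ha hb => ⟨mul_mem ha.1 hb.1, fun v hv => by
    have := mul_mem (ha.2 v hv) (U_smul ha.1 (hb.2 v hv))
    rwa [smul_mul', mul_assoc, ← mul_assoc (a • v), h.v2, one_mul, ← mul_smul] at this⟩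
  inv_mem' := fun {a} ha => ⟨inv_mem ha.1, fun v hv => by
    have := U_smul (inv_mem ha.1) (ha.2 v hv)
    rwa [smul_mul', inv_smul_smul, mul_comm] at this⟩

include h

theorem nL : Cen1 t ≤ Nor h.L := fun g hg => mnor fun k hk =>
  ⟨mul_mem (mul_mem hg hk.1) (inv_mem hg), fun v hv => by
    have := U_smul hg (hk.2 _ (Fx_smul (inv_mem hg) hv))
    rwa [smul_mul', smul_inv_smul, ← mul_smul, ← mul_smul] at this⟩

theorem cL : c ∈ h.L := ⟨c1s.1 h.tc, fun v hv => by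
  obtain ⟨a, ha, u, hu, rfl⟩ := mem_sup.1 (h.F_eq ▸ hv)
  rw [smul_mul', mFx.1 ha, mul_mul_mul_comm, h.v2, one_mul]
  exact mul_mem hu (U_smul (c1s.1 h.tc) hu)⟩

theorem xL : x ∉ h.L := fun e => by
  have : Fx V c = ⊥ := eq_bot_iff.2 fun a ha => h.fx a (h.eq_of (mem_bot.1 (h.i123 ▸ mem_inf.2
    ⟨mul_mem ha (Fx_smul (c1s.1 h.e9.cm) ha), h.U_le (e.2 a (h.tD ha))⟩))).symm
  have e := h.D
  rw [this, card_bot] at e
  omega

theorem cardL : ∃ k, Nat.card h.L ∣ 2 ^ k * 315 := by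
  have e := card_map_mul (psi V t) (h.L.subgroupOf (Cen1 t))
  rw [Nat.card_congr (subgroupOfEquivOfLe (show h.L ≤ Cen1 t from fun g hg => hg.1)).toEquiv] at e
  have p2 : IsPGroup 2 ↥((psi V t).ker ⊓ h.L.subgroupOf (Cen1 t)) := by
    rintro ⟨⟨g, hg⟩, h1, h2⟩
    refine ⟨2, Subtype.ext (Subtype.ext (h.fa _ fun v => ?_))⟩
    have e1 : ∀ u ∈ (ph V t).range, g • u = u := fun u hu =>
      congrArg (fun f : MulAut (ph V t).range => (f ⟨u, hu⟩ : V)) h1
    have sq : ∀ a : K, ∀ w : V, a • (w * a • w) = w * a • w → (a * a) • w = w := fun a w e => by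
      rw [smul_mul', mul_comm w, mul_left_cancel_iff, ← mul_smul] at e; exact e
    have e2 : ∀ w ∈ Fx V t, (g * g) • w = w := fun w hw => sq g w (e1 _ (h2.2 w hw))
    have e3 : v * (g * g) • v ∈ Fx V t := by
      rw [← h.ker_ph, MonoidHom.mem_ker, map_mul, ← ph_smul (mul_mem hg hg), e2 _ (h.ph_fx v), h.v2]
    have := sq _ v (e2 _ e3)
    show g ^ 2 ^ 2 • v = v
    rw [show g ^ 2 ^ 2 = g * g * (g * g) by simp [pow_succ, mul_assoc], this]
  obtain ⟨k, hk⟩ := H7.card_eq_pow_of_le p2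
  have d := (card_subgroup_dvd_card ((h.L.subgroupOf (Cen1 t)).map (psi V t))).trans
    (H3.card_mulAut_dvd (n := 4) (fun u => Subtype.ext (by simpa [pow_two] using h.v2 u)) h.cU)
  refine ⟨k + 6, ?_⟩
  rw [← e, hk, pow_add, mul_assoc]
  exact mul_dvd_mul_left _ (d.trans (by decide))

theorem star {g : K} (e : g * x * g⁻¹ ∈ Nor (zpowers x)) : g ∈ Nor (zpowers x) := by
  have w3 : (g * x * g⁻¹) ^ 3 = 1 := by rw [conj_pow, h.toSt.x3]; simp
  refine mem_nor3 (by_contra fun hx => ?_)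
  obtain ⟨k, -, hk⟩ := h.conj3 h.e9.cm h.e9.c3 h.e9.cx (h.odd_c e (odd3 (k := 1) w3)) w3 hx
  have e := card_Fx_conj (V := V) g x
  rw [← hk, card_Fx_conj, h.D, show Fx V x = ⊥ from eq_bot_iff.2 h.fx, card_bot] at e
  omega

theorem CN : Cen1 x ≤ Nor (zpowers x) := nzp le_rfl

theorem cenA {a : K} (ha : a ∈ ZZ x c) (h1 : a ≠ 1) : Cen1 a ≤ Nor (zpowers x) := by
  by_cases e : a ∈ zpowers x
  · rcases mem_zp3 h.ox e with rfl | rfl | rfl
    · exact absurd rfl h1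
    · exact h.CN
    · exact fun g hg => h.CN (c1s.1 (inv_mem_iff.1 (c1s.1 hg)))
  · obtain ⟨k, hk, rfl⟩ := h.conj3 h.e9.cm h.e9.c3 h.e9.cx (h.e9.le ha) (h.e9.exp ha) e
    rw [← conj_c1, ← conjS_eq_of_mem (h.CN hk)]
    exact conjS_mono k h.cen

theorem norc : Nor (zpowers c) ≤ Nor (zpowers x) := fun g hg => h.star (h.cen (by
  have := cmem (ncen (le_refl _) hg) (cen_zp c ▸ c1s.1 h.e9.cm)
  rwa [cen_zp] at this))

theorem t1152 : Nat.card ↥(Cen1 x ⊓ Cen1 t) ∣ 1152 := by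
  have := h.cen_dvd h.tx h.it.2 fun e => h.it.1 (by
    simpa using h.Z2 e (k := 1) (by simp [pow_two, h.it.2]))
  rwa [h.cardZ1 rfl] at this

theorem cenT : Cen1 t ≤ Nor (zpowers x) := by
  have AY : ZZ x c ≤ Cen1 t := sup_le (zpowers_le.2 (c1s.1 h.tx)) (zpowers_le.2 (c1s.1 h.tc))
  have odd : ∀ (r : ℕ) [Fact r.Prime], Odd r → r ∣ Nat.card ↥(Cen1 t ⊓ Nor (zpowers x)) →
      r ∣ 1152 := fun r _ o d => by
    obtain ⟨u, hu, ou⟩ := exists_orderOf_eq_prime_mem d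
    exact (ou ▸ orderOf_dvd_natCard _ (mem_inf.2 ⟨h.odd_c hu.2 (ou ▸ o), hu.1⟩)).trans h.t1152
  haveI : Fact (Nat.Prime 5) := ⟨by norm_num⟩
  haveI : Fact (Nat.Prime 7) := ⟨by norm_num⟩
  obtain ⟨k, hk⟩ := h.cardL
  refine lemY h.e9 (IsSylowOf.of_normalizer (isSylowOf_of_maximal (le_inf AY le_normalizer) h.e9.pg
    fun R hR h1 h2 => ?_)) h.cL h.xL (fun g hg => hg.1) h.nL (fun a => h.cenA) h.norc
    (fun d => by simpa using odd 5 (by decide) d) (fun d => by simpa using odd 7 (by decide) d) hk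
  have l : R ≤ Cen1 x ⊓ Cen1 t := fun r hr => mem_inf.2 ⟨h.odd_c (h.star (h.CN (h.e9.le
    (cmem (h2 hr).2 (mem_sup_left (mem_zpowers x)))))) (odd3 (H7.pow_eq_one_of_mem hR hr).choose_spec),
    (h2 hr).1⟩
  obtain ⟨j, hj⟩ := H7.card_eq_pow_of_le hR
  have d : 3 ^ j ∣ 2 ^ 7 * 9 := hj ▸ (card_dvd_of_le l).trans h.t1152
  exact (SF.eq_of_le_card h1 (by
    rw [h.e9.card, hj]
    exact Nat.le_of_dvd (by norm_num) ((Nat.Coprime.pow_left j (by norm_num)).dvd_of_dvd_mul_left d))).ge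

theorem fuse {g a : K} (ha : a ∈ Cen1 x) (ia : BS.Inv a) (e : g * a * g⁻¹ ∈ Nor (zpowers x)) :
    g ∈ Nor (zpowers x) := by
  obtain ⟨k, hk, rfl⟩ := h.conj2 rfl h.tx h.it ha ia
  rcases nor3 h.ox e with e' | e'
  · obtain ⟨l, hl, el⟩ := h.conj2 rfl h.tx h.it (c1'.2 e') (ia.conj g)
    have : l⁻¹ * g * k ∈ Cen1 t := c1'.2 (by
      calc _ = l⁻¹ * (g * (k * t * k⁻¹) * g⁻¹) * l := by group
        _ = t := by rw [← el]; group)
    simpa [mul_assoc] using mul_mem (mul_mem (h.CN hl) (h.cenT this)) (h.CN (inv_mem hk))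
  · have := h.outer e'
    rw [card_Fx_conj, card_Fx_conj, h.cF] at this
    omega

theorem norC : Nor (Cen1 x) = Nor (zpowers x) :=
  le_antisymm (fun _ hg => h.star (h.CN (cmem hg h.toSt.xC))) (cen_zp x ▸ ncen le_rfl)

theorem main : Nor (zpowers x) = ⊤ := by
  by_contra hN
  have ch := SF.ch_of_nor (A := Cen1 x) fun g a ha ia e => h.norC ▸ h.fuse ha ia (h.norC ▸ e)
  rw [h.norC] at ch
  have s2 : y * t * y⁻¹ ∈ Cen1 x := mul_mem (mul_mem h.yC h.tx) (inv_mem h.yC)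
  have i2 := h.it.conj y
  have i3 : BS.Inv (t * (y * t * y⁻¹)) := by
    rw [eq_inv_of_mul_eq_one_left h.ttt, (i2.conj y).inv]; exact i2.conj y
  have ne : t ≠ y * t * y⁻¹ := fun e => i3.1 (by rw [← e, h.it.2])
  have cm : t * (y * t * y⁻¹) = y * t * y⁻¹ * t := by rw [← i3.inv, mul_inv_rev, i2.inv, h.it.inv]
  haveI := ch.closure_normal
  have m : ∀ {a}, a ∈ Cen1 x → a * a = 1 → a ∈ closure (SF.Cj (Cen1 x)) := fun {a} ha a2 => by
    by_cases e : a = 1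
    exacts [e ▸ one_mem _, subset_closure (SF.mem_Cj ⟨e, a2⟩ ha)]
  have se := ch.sein hN (ch.pure hN ⟨t, SF.mem_Cj h.it h.tx, _, SF.mem_Cj i2 s2, trivial, trivial,
    ne, cm⟩) (BS.even_of_inv (m h.tx h.it.2) h.it.1 h.it.2)
  have f := (MT.se_facts se ⟨t, m h.tx h.it.2, _, m s2 i2.2, h.it, i2, ne, cm⟩).1
  have nO : ⊤ ≤ Nor (Oo (closure (SF.Cj (Cen1 x)))) := (normalizer_eq_top _).ge.trans (nOo _)
  have ci : ∀ a ∈ Cen1 x, BS.Inv a → Cen1 a ≤ Nor (zpowers x) := fun a ha ia g hg =>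
    h.fuse ha ia (by rw [c1'.1 hg]; exact h.CN ha)
  have oO := odd_Oo (closure (SF.Cj (Cen1 x)))
  have l1 := BS.le_of_four h.it i2 ne cm oO (nO trivial) (nO trivial)
    (inf_le_right.trans (ci _ h.tx h.it)) (inf_le_right.trans (ci _ s2 i2))
    (inf_le_right.trans (ci _ (mul_mem h.tx s2) i3))
  rcases h.norm (fun g hg => h.odd_c (l1 hg) (odd_ord oO hg)) (le_top.trans nO) with e | e
  · obtain ⟨a, b, a2, b2, ab⟩ := h.mf.nc
    have lift : ∀ a : M, a * a = 1 → ∃ g : Cen1 x, π g = a ∧ (g : K) * g = 1 := fun a a2 => by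
      obtain ⟨g, rfl⟩ := h.surj a
      refine ⟨g ^ 3, by rw [map_pow, pow_three, a2, mul_one], ?_⟩
      have := h.pi1.1 (map_mul π g g ▸ a2)
      rw [ZZ, zpowers_one_eq_bot, sup_bot_eq] at this
      rw [coe_pow, ← (Commute.refl (g : K)).mul_pow]
      exact orderOf_dvd_iff_pow_eq_one.1 (h.ox ▸ orderOf_dvd_of_mem_zpowers this)
    obtain ⟨a, rfl, a2'⟩ := lift a a2
    obtain ⟨b, rfl, b2'⟩ := lift b b2
    exact ab (by simpa using (h.pi1 (g := a * b * (a * b))).2 (e (f _ (mem_inf.2 ⟨m a.2 a2', h.CN a.2⟩) _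
      (mem_inf.2 ⟨m b.2 b2', h.CN b.2⟩) a2' b2')))
  · exact h.it.not_mem oO (e.ge h.tx)

end KS

theorem St.theta [Finite K] {x n : K} {π : Cen1 x →* M} (h : St x 1 π) (hN : Nor (zpowers x) = ⊤)
    (hn : n * x * n⁻¹ = x⁻¹) :
    ∃ θ : K →* MulAut M, Function.Surjective θ ∧ θ.ker = zpowers x := by
  haveI := h.mf.fin
  have eZ : ZZ x 1 = zpowers x := by rw [ZZ, zpowers_one_eq_bot, sup_bot_eq]
  have nC : ∀ g, g ∈ Nor (Cen1 x) := fun g => cen_zp x ▸ ncen le_rfl (hN.ge (mem_top g))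
  let κ : K → Cen1 x →* Cen1 x := fun g =>
    { toFun := fun a => ⟨g * a * g⁻¹, cmem (nC g) a.2⟩
      map_one' := by ext; simp
      map_mul' := fun a b => by ext; simp [mul_assoc] }
  have hκ : ∀ g, π.ker ≤ (π.comp (κ g)).ker := fun g a ha =>
    h.pi1.2 (eZ ▸ cmem (hN.ge (mem_top g)) (eZ ▸ h.pi1.1 ha))
  let φ : K → M →* M := fun g => π.liftOfSurjective h.surj ⟨_, hκ g⟩
  have eφ : ∀ g a, φ g (π a) = π (κ g a) := fun g a => π.liftOfRightInverse_comp_apply _ _ _ a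
  have mφ : ∀ g g' m, φ g (φ g' m) = φ (g * g') m := fun g g' m => by
    obtain ⟨a, rfl⟩ := h.surj m
    rw [eφ, eφ, eφ]; congr 1; ext; simp [κ, mul_assoc]
  have oφ : ∀ m, φ 1 m = m := fun m => by
    obtain ⟨a, rfl⟩ := h.surj m
    rw [eφ]; congr 1; ext; simp [κ]
  let θ : K →* MulAut M :=
    { toFun := fun g =>
        { toFun := φ g, invFun := φ g⁻¹, left_inv := fun m => by rw [mφ, inv_mul_cancel, oφ]
          right_inv := fun m => by rw [mφ, mul_inv_cancel, oφ], map_mul' := map_mul _ }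
      map_one' := by ext m; exact oφ m
      map_mul' := fun g g' => by ext m; exact (mφ g g' m).symm }
  have hk : θ.ker = zpowers x := by
    have key : ∀ g, g ∈ θ.ker ↔ ∀ a ∈ Cen1 x, g * a * g⁻¹ * a⁻¹ ∈ ZZ x 1 := fun g => by
      refine ⟨fun e a ha => (h.pi1 (g := κ g ⟨a, ha⟩ * (⟨a, ha⟩ : Cen1 x)⁻¹)).1 ?_, fun e => ?_⟩
      · rw [map_mul, ← eφ, show φ g (π ⟨a, ha⟩) = π ⟨a, ha⟩ from
          congrArg (fun f : MulAut M => f (π ⟨a, ha⟩)) e]; simp
      · ext m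
        obtain ⟨a, rfl⟩ := h.surj m
        have := (h.pi1 (g := κ g a * a⁻¹)).2 (e a a.2)
        rw [map_mul, map_inv, mul_inv_eq_one] at this
        exact (eφ g a).trans this
    refine le_antisymm (fun g hg => ?_) (zpowers_le.2 ((key x).2 fun a ha => by
      rw [← c1.1 ha]; simp))
    have hg' := (key g).1 hg
    have gC : g ∈ Cen1 x := by
      have : ⁅Cen1 x, Cen1 x⁆ ≤ Cen1 g := commutator_le.2 fun a ha b hb => c1s.1 (c1'.2 (by
        obtain ⟨u, hu, eu⟩ : ∃ u ∈ ZZ x 1, g * a * g⁻¹ = u * a := ⟨_, hg' a ha, by group⟩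
        obtain ⟨v, hv, ev⟩ : ∃ u ∈ ZZ x 1, g * b * g⁻¹ = u * b := ⟨_, hg' b hb, by group⟩
        rw [conjugate_commutatorElement, eu, ev, ← h.cz hu ha, ← h.cz hv hb]
        have e1 := h.cz hu hb
        have e2 := h.cz hv ha
        have e3 := h.cz hv (h.ZC hu)
        calc ⁅a * u, b * v⁆ = a * (u * b) * v * u⁻¹ * a⁻¹ * v⁻¹ * b⁻¹ := by
              rw [commutatorElement_def]; group
          _ = a * b * (u * v) * u⁻¹ * a⁻¹ * v⁻¹ * b⁻¹ := by rw [← e1]; group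
          _ = a * b * v * (a * v)⁻¹ * v * v⁻¹ * b⁻¹ := by
              rw [e3, e2]; group
          _ = ⁅a, b⁆ := by rw [commutatorElement_def]; group))
      exact c1s.1 (this (h.perf.symm ▸ h.xC))
    refine eZ ▸ h.of_ctr gC fun a ha => ?_
    simpa [mul_assoc] using inv_mem (hg' a ha)
  refine ⟨θ, MonoidHom.range_eq_top.1 (eq_top_of_le_card _ ?_), hk⟩
  have e1 := θ.ker.card_mul_index
  rw [index_ker, hk, Nat.card_zpowers, h.ox] at e1
  have e2 := card_le_card_group (Cen1 x ⊔ zpowers n)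
  rw [SF.card_sup_zp (nC n) (sq_c1 h.ox (hN.ge (mem_top n)))
    (fun e => h.xinv (hn.symm.trans (c1'.1 e))), h.cardC, h.cardZ1 rfl] at e2
  have := h.mf.aut
  omega

end J4
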