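import Cfsg.Agent.J4.M22
import Cfsg.Agent.SF.P
import Cfsg.Agent.MT.Gen
import Cfsg.Agent.H9.Tools2
import Cfsg.Agent.FT.BG4b
import Cfsg.Agent.H3.SimpleCrit

/-! The centralizer `3.M₂₂` or `6.M₂₂` of an element of order 3. -/

set_option autoImplicit false
set_option linter.unusedSectionVars false

namespace J4
open Cfsg Subgroup FT H4 H5 GW
open scoped commutatorElement

instance fact3J4 : Fact (Nat.Prime 3) := ⟨Nat.prime_three⟩

variable {G : Type*} [Group G] {M : Type*} [Group M]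

theorem MF.fin (h : MF M) : Finite M := Nat.finite_of_card_ne_zero (by rw [h.card]; norm_num)

theorem MF.ctr (h : MF M) {a : M} (ha : ∀ g, g * a = a * g) : a = 1 := by
  haveI := h.simp
  rcases (inferInstance : (center M).Normal).eq_bot_or_eq_top with e | e
  · exact mem_bot.1 (e ▸ mem_center_iff.2 ha)
  · obtain ⟨a, b, h1, h2, h3⟩ := h.nc
    have := mem_center_iff.1 (e.ge (mem_top a)) b
    exact absurd (by rw [mul_assoc, ← mul_assoc b, this, mul_assoc, h2, mul_one, h1]) h3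

theorem mem_zp3 {x w : G} (ox : orderOf x = 3) (h : w ∈ zpowers x) : w = 1 ∨ w = x ∨ w = x⁻¹ := by
  have x3 : x ^ 3 = 1 := ox ▸ pow_orderOf_eq_one x
  obtain ⟨k, rfl⟩ := h
  have : x ^ k = x ^ (k % 3) := by
    conv_lhs => rw [← Int.mul_ediv_add_emod k 3, zpow_add, zpow_mul]
    rw [show x ^ (3 : ℤ) = 1 from by exact_mod_cast x3, one_zpow, one_mul]
  show x ^ k = 1 ∨ x ^ k = x ∨ x ^ k = x⁻¹
  rw [this]
  have : k % 3 = 0 ∨ k % 3 = 1 ∨ k % 3 = 2 := by omega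
  rcases this with e | e | e <;> rw [e]
  · simp
  · simp
  · right; right
    exact eq_inv_of_mul_eq_one_left (by rw [← zpow_add_one]; exact_mod_cast x3)

theorem nor3 {x g : G} (ox : orderOf x = 3) (h : g ∈ Nor (zpowers x)) :
    g * x * g⁻¹ = x ∨ g * x * g⁻¹ = x⁻¹ :=
  (mem_zp3 ox (cmem h (mem_zpowers x))).resolve_left fun e => by
    rw [conj_eq_one_iff.1 e] at ox; simp at ox

theorem sq_c1 {x g : G} (ox : orderOf x = 3) (h : g ∈ Nor (zpowers x)) : g * g ∈ Cen1 x := by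
  rw [c1']
  rcases nor3 ox h with e | e
  · calc _ = g * (g * x * g⁻¹) * g⁻¹ := by group
      _ = x := by rw [e, e]
  · calc _ = g * (g * x * g⁻¹) * g⁻¹ := by group
      _ = (g * x * g⁻¹)⁻¹ := by conv_lhs => rw [e]
                                group
      _ = x := by rw [e, inv_inv]

theorem mem_nor3 [Finite G] {x g : G} (h : g * x * g⁻¹ ∈ zpowers x) : g ∈ Nor (zpowers x) :=
  mnor (by rintro _ ⟨k, rfl⟩; simpa only [← conj_zpow] using zpow_mem h k)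

theorem odd3 {g : G} {k : ℕ} (h : g ^ 3 ^ k = 1) : Odd (orderOf g) :=
  Odd.of_dvd_nat (Odd.pow (by decide)) (orderOf_dvd_of_pow_eq_one h)

theorem ord3 {a : G} (h : a ^ 3 = 1) (h1 : a ≠ 1) : orderOf a = 3 := orderOf_eq_prime h h1

theorem pg3 {a : G} (h : a ^ 3 = 1) : IsPGroup 3 (zpowers a) := by
  rintro ⟨_, j, rfl⟩
  refine ⟨1, Subtype.ext ?_⟩
  show (a ^ j) ^ 3 ^ 1 = 1
  rw [pow_one, ← zpow_natCast, ← zpow_mul, mul_comm, zpow_mul, zpow_natCast, h, one_zpow]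

/-- the centre -/
abbrev ZZ (x z : G) : Subgroup G := zpowers x ⊔ zpowers z

structure St (x z : G) (π : Cen1 x →* M) : Prop where
  mf : MF M
  ox : orderOf x = 3
  z2 : z * z = 1
  zx : z ∈ Cen1 x
  zc : Cen1 x ≤ Cen1 z
  surj : Function.Surjective π
  ker : π.ker = (ZZ x z).subgroupOf (Cen1 x)
  perf : ⁅Cen1 x, Cen1 x⁆ = Cen1 x

namespace St
variable [Finite G] {x z : G} {π : Cen1 x →* M} (h : St x z π)
include h

theorem x3 : x ^ 3 = 1 := h.ox ▸ pow_orderOf_eq_one x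
theorem x1 : x ≠ 1 := fun e => by have := h.ox; rw [e] at this; simp at this
theorem xC : x ∈ Cen1 x := c1.2 rfl
theorem xinv : x⁻¹ ≠ x := fun e => by
  have : x ^ 3 = x * x⁻¹ * x := by rw [e]; simp [pow_succ]
  rw [h.x3] at this; exact h.x1 (by simpa using this.symm)

theorem ZC : ZZ x z ≤ Cen1 x := sup_le (zpowers_le.2 h.xC) (zpowers_le.2 h.zx)

theorem cZ : Cen1 x ≤ Cen (ZZ x z) :=
  le_cen_symm (sup_le (zp_le_cen.2 le_rfl) (zp_le_cen.2 h.zc))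

theorem cz {w g : G} (hw : w ∈ ZZ x z) (hg : g ∈ Cen1 x) : g * w = w * g := cen.1 (h.cZ hg) w hw

theorem pi1 {g : Cen1 x} : π g = 1 ↔ (g : G) ∈ ZZ x z := map_eq_one_iff_of_ker h.ker

theorem mem_Z {w : G} : w ∈ ZZ x z ↔ w ∈ zpowers x ∨ w * z ∈ zpowers x :=
  SF.mem_sup_zp (mzp h.zx) (h.z2 ▸ one_mem _)

theorem Z3 {w : G} (hw : w ∈ ZZ x z) (ho : Odd (orderOf w)) : w ∈ zpowers x := by
  refine GW.mem_of_sq_mem ho ((h.mem_Z.1 hw).elim (fun e => mul_mem e e) fun e => ?_)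
  have := mul_mem e e
  rwa [mul_assoc, ← mul_assoc z, ← c1.1 (h.zc (h.ZC hw)), mul_assoc w, h.z2, mul_one] at this

theorem Z2 {w : G} (hw : w ∈ ZZ x z) {k : ℕ} (h2 : w ^ 2 ^ k = 1) : w = 1 ∨ w = z := by
  have key : ∀ u ∈ zpowers x, u ^ 2 ^ k = 1 → u = 1 := fun u hu e =>
    orderOf_eq_one_iff.1 (Nat.eq_one_of_dvd_coprimes (a := 2 ^ k) (b := 3)
      (Nat.Coprime.pow_left k (by norm_num)) (orderOf_dvd_of_pow_eq_one e)
      (h.ox ▸ orderOf_dvd_of_mem_zpowers hu))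
  refine (h.mem_Z.1 hw).imp (fun e => key w e h2) fun e => ?_
  rcases k with _ | k
  · obtain rfl : w = 1 := by simpa using h2
    have := key _ e
    have : z = 1 := by
      rcases mem_zp3 h.ox e with e | e | e
      · simpa using e
      · have := h.z2; rw [one_mul] at e; rw [e] at this
        exact absurd (eq_inv_of_mul_eq_one_left this).symm h.xinv
      · have := h.z2; rw [one_mul] at e; rw [e] at this
        exact absurd (by simpa using eq_inv_of_mul_eq_one_left this) h.xinv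
    exact this.symm
  · have := key _ e (by
      rw [Commute.mul_pow (c1.1 (h.zc (h.ZC hw))), h2, pow_succ', pow_mul, pow_two, h.z2]; simp)
    rw [eq_inv_of_mul_eq_one_left this, inv_eq_of_mul_eq_one_left h.z2]

theorem Z2' {R : Subgroup G} (hR : R ≤ ZZ x z) (h2 : IsPGroup 2 R) : R ≤ zpowers z := fun w hw => by
  obtain ⟨k, hk⟩ := H7.pow_eq_one_of_mem h2 hw
  rcases h.Z2 (hR hw) hk with rfl | rfl
  exacts [one_mem _, mem_zpowers _]

theorem cardZ1 (hz : z = 1) : Nat.card (ZZ x z) = 3 := by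
  rw [ZZ, hz, zpowers_one_eq_bot, sup_bot_eq, Nat.card_zpowers, h.ox]

theorem cardZ (hz : z ≠ 1) : Nat.card (ZZ x z) = 6 := by
  rw [SF.card_sup_zp (mzp h.zx) (h.z2 ▸ one_mem _), Nat.card_zpowers, h.ox]
  exact not_mem_odd (by rw [Nat.card_zpowers, h.ox]; decide) (W.o2 h.z2 hz)

theorem cardC : Nat.card (Cen1 x) = 443520 * Nat.card (ZZ x z) := by
  rw [card_eq_card_im_mul h.ker le_rfl, im_self h.surj, card_top, h.mf.card,
    inf_of_le_right h.ZC]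

theorem cardC' : Nat.card (Cen1 x) = 1330560 ∨ Nat.card (Cen1 x) = 2661120 := by
  rw [h.cardC]
  by_cases e : z = 1
  · rw [h.cardZ1 e]; simp
  · rw [h.cardZ e]; simp

theorem of_ctr {w : G} (hw : w ∈ Cen1 x) (hc : ∀ g ∈ Cen1 x, g * w * g⁻¹ * w⁻¹ ∈ ZZ x z) :
    w ∈ ZZ x z := by
  refine (h.pi1 (g := ⟨w, hw⟩)).1 (h.mf.ctr fun m => ?_)
  obtain ⟨g, rfl⟩ := h.surj m
  have := (h.pi1 (g := g * ⟨w, hw⟩ * g⁻¹ * (⟨w, hw⟩ : Cen1 x)⁻¹)).2 (hc g g.2)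
  simpa [mul_inv_eq_iff_eq_mul] using this

theorem norm {R : Subgroup G} (h1 : R ≤ Cen1 x) (h2 : Cen1 x ≤ Nor R) :
    R ≤ ZZ x z ∨ R = Cen1 x := by
  haveI := h.mf.simp
  have : (im π R).Normal := normalizer_eq_top_iff.1 (top_le_iff.1
    (im_self h.surj ▸ im_le_normalizer h2))
  rcases this.eq_bot_or_eq_top with e | e
  · exact Or.inl ((im_eq_bot_iff h.ker h1).1 e)
  · right
    have e1 : Cen1 x ≤ R ⊔ ZZ x z := (im_le_im_iff h.ker h.ZC le_rfl h1).1 (e ▸ le_top)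
    refine le_antisymm h1 (h.perf ▸ commutator_le.2 fun a ha b hb => ?_)
    have n : ZZ x z ≤ Nor R := h.ZC.trans h2
    obtain ⟨r, hr, u, hu, rfl⟩ := (H7.mem_sup_of_le_normalizer_left n).1 (e1 ha)
    have : ⁅r * u, b⁆ = r * (b * r⁻¹ * b⁻¹) := by
      rw [commutatorElement_def, mul_assoc r u b, ← h.cz hu hb]; group
    exact this ▸ mul_mem hr (cmem (h2 hb) (inv_mem hr))

theorem two_le {R : Subgroup G} (h1 : R ≤ Cen1 x) (h2 : Cen1 x ≤ Nor R) (hR : IsPGroup 2 R) :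
    R ≤ zpowers z := by
  rcases h.norm h1 h2 with e | e
  · exact h.Z2' e hR
  · exact absurd (e ▸ h.xC) fun hx => by
      obtain ⟨k, hk⟩ := H7.pow_eq_one_of_mem hR hx
      have := orderOf_dvd_of_pow_eq_one hk
      rw [h.ox] at this
      exact absurd (Nat.prime_three.dvd_of_dvd_pow this) (by norm_num)

theorem card2 {R : Subgroup G} (h1 : R ≤ Cen1 x) (hR : IsPGroup 2 R) : Nat.card R ≤ 256 := by
  obtain ⟨k, hk⟩ := H7.card_eq_pow_of_le hR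
  have h3 : 2 ^ k ∣ 2 ^ 8 * 10395 := hk ▸ (card_dvd_of_le h1).trans (by
    rcases h.cardC' with e | e <;> rw [e] <;> norm_num)
  exact hk ▸ Nat.le_of_dvd (by norm_num)
    ((Nat.Coprime.pow_left k (by norm_num)).dvd_of_dvd_mul_right h3)

theorem cen_dvd {w : G} (hw : w ∈ Cen1 x) (h2 : w * w = 1) (h1 : w ∉ ZZ x z) :
    Nat.card ↥(Cen1 x ⊓ Cen1 w) ∣ 384 * Nat.card (ZZ x z) := by
  rw [card_eq_card_im_mul h.ker inf_le_left, ← h.mf.cen (π ⟨w, hw⟩)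
    (by rw [← map_mul]; exact h.pi1.2 (by simp [h2])) (fun e => h1 (h.pi1.1 e))]
  exact mul_dvd_mul (card_dvd_of_le ((im_mono inf_le_right).trans
    (im_centralizer_singleton_le hw))) (card_dvd_of_le inf_le_right)

theorem no32 {X : Subgroup G} (h1 : X ≤ Cen1 x) (h2 : ∀ a ∈ X, a * a = 1) (hz : z ∉ X) :
    Nat.card X ≠ 32 := by
  rw [← card_im_of_disjoint h.ker h1 (eq_bot_iff.2 fun a ha => by
    rcases h.Z2 ha.2 (k := 1) (by simpa [pow_two] using h2 a ha.1) with e | e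
    exacts [e, absurd (e ▸ ha.1) hz])]
  refine h.mf.e32 _ fun a ha => ?_
  obtain ⟨g, hg, rfl⟩ := mem_im.1 ha
  rw [← map_mul, show g * g = 1 from Subtype.ext (h2 _ hg), map_one]

theorem card3 {P : Subgroup G} (hP : IsSylowOf 3 P (Cen1 x)) : Nat.card P = 27 := by
  rw [hP.card_eq]
  have : ∀ m, ¬ 3 ∣ m → (3 ^ 3 * m).factorization 3 = 3 := fun m hm => by
    rw [Nat.factorization_mul (by norm_num) (by rintro rfl; simp at hm), Finsupp.add_apply,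
      Nat.prime_three.factorization_pow, Nat.factorization_eq_zero_of_not_dvd hm]; simp
  rcases h.cardC' with e | e <;> rw [e]
  · rw [show 1330560 = 3 ^ 3 * 49280 by norm_num, this _ (by norm_num)]; norm_num
  · rw [show 2661120 = 3 ^ 3 * 98560 by norm_num, this _ (by norm_num)]; norm_num

theorem xP {P : Subgroup G} (hP : IsSylowOf 3 P (Cen1 x)) : x ∈ P :=
  zpowers_le.1 (hP.le_of_le_normalizer (pg3 h.x3) (zpowers_le.2 h.xC) (nzp hP.le))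

theorem nonab {P : Subgroup G} (hP : IsSylowOf 3 P (Cen1 x)) : ¬ IsMulCommutative P := by
  intro hc
  obtain ⟨S, rfl⟩ := hP.exists_sylow
  haveI : Group.IsPerfect (Cen1 x) := ⟨by
    rw [commutator_def, ← subgroupOf_self, ← subgroupOf_commutator le_rfl le_rfl, h.perf]⟩
  obtain ⟨y, hy, e⟩ := h.xP hP
  refine H9.not_normalizer_le_Cen S (fun a ha b hb => Subtype.ext (by
    simpa using congrArg Subtype.val
      (hc.1.1 ⟨a, mem_map_of_mem _ ha⟩ ⟨b, mem_map_of_mem _ hb⟩))) hy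
    (fun e' => h.x1 (by rw [← e, e']; rfl)) fun g _ => H9.mem_Cen.2 (Subtype.ext ?_)
  rw [coe_mul, coe_mul, show (y : G) = x from e, c1.1 g.2]

theorem step3 {P : Subgroup G} (hP : IsSylowOf 3 P (Cen1 x)) {a : G} (ha : a ∈ P)
    (hx : a ∉ zpowers x) : ∃ y ∈ P, y * a * y⁻¹ = a * x := by
  haveI := h.mf.fin
  have c27 := h.card3 hP
  have xP := h.xP hP
  obtain ⟨y, hy, hne⟩ : ∃ y ∈ P, y * a ≠ a * y := by
    by_contra! hc
    have l1 : zpowers x < P ⊓ Cen P := lt_of_le_of_ne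
      (zpowers_le.2 ⟨xP, cen_iff_le.2 hP.le⟩) fun e => hx (e ▸ ⟨ha, cen.2 fun g hg => (hc g hg).symm⟩)
    have l2 := H7.card_mul_le_of_lt (hP.isPGroup.to_le inf_le_left) l1
    rw [Nat.card_zpowers, h.ox] at l2
    by_cases e : P ≤ Cen P
    · exact h.nonab hP (isMulCommutative_of_forall fun a ha b hb => cen.1 (e ha) b hb)
    obtain ⟨b, hb, hb'⟩ := SetLike.not_le_iff_exists.1 e
    have l3 : P ⊓ Cen P < (P ⊓ Cen P) ⊔ zpowers b := left_lt_sup.2 fun e => hb' (zpowers_le.1 e).2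
    have l4 : (P ⊓ Cen P) ⊔ zpowers b ≤ P := sup_le inf_le_left (zpowers_le.2 hb)
    have l5 := H7.card_mul_le_of_lt (hP.isPGroup.to_le l4) l3
    exact h.nonab hP (cyclic_center_factor_abelian ((SF.eq_of_le_card l4 (by omega)).ge.trans
      (sup_le_sup_right inf_le_right _)) hb)
  have c9 : Nat.card (im π P) ≤ 3 ^ 2 := by
    have e1 := card_eq_card_im_mul h.ker hP.le
    have e2 := card_le_of_le (show zpowers x ≤ P ⊓ ZZ x z from
      le_inf (zpowers_le.2 xP) le_sup_left)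
    rw [Nat.card_zpowers, h.ox] at e2
    nlinarith
  have cm := (comm_of_card_le_sq (isPGroup_im (f := π) hP.isPGroup) c9).1.1
    ⟨_, mem_im_of_mem (hP.le ha) ha⟩ ⟨_, mem_im_of_mem (hP.le hy) hy⟩
  have hw : a⁻¹ * (y * a * y⁻¹) ∈ ZZ x z := by
    refine (h.pi1 (g := (⟨a, hP.le ha⟩ : Cen1 x)⁻¹ * (⟨y, hP.le hy⟩ * ⟨a, hP.le ha⟩ *
      (⟨y, hP.le hy⟩ : Cen1 x)⁻¹))).1 ?_
    have cm' : π ⟨a, hP.le ha⟩ * π ⟨y, hP.le hy⟩ = _ := congrArg Subtype.val cm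
    simp only [map_mul, map_inv]
    rw [show π ⟨y, hP.le hy⟩ * π ⟨a, hP.le ha⟩ = _ from cm'.symm]; group
  obtain ⟨k, hk⟩ := H7.pow_eq_one_of_mem hP.isPGroup
    (mul_mem (inv_mem ha) (mul_mem (mul_mem hy ha) (inv_mem hy)))
  rcases mem_zp3 h.ox (h.Z3 hw (odd3 hk)) with e | e | e
  · exact absurd (by rw [inv_mul_eq_one] at e; exact mul_inv_eq_iff_eq_mul.1 e.symm) hne
  · exact ⟨y, hy, by rw [← e]; group⟩
  · refine ⟨y⁻¹, inv_mem hy, ?_⟩
    have e1 : y * a * y⁻¹ = a * x⁻¹ := by rw [← e]; group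
    calc y⁻¹ * a * y⁻¹⁻¹ = y⁻¹ * (a * x⁻¹) * (x * y) := by group
      _ = a * x := by rw [← e1, ← c1.1 (hP.le hy)]; group

theorem step {a : G} (ha : a ∈ Cen1 x) (h3 : a ^ 3 = 1) (hx : a ∉ zpowers x) :
    ∃ y ∈ Cen1 x, y * a * y⁻¹ = a * x := by
  obtain ⟨P, hP, e⟩ := exists_isSylowOf_ge (pg3 h3) (zpowers_le.2 ha)
  obtain ⟨y, hy, e⟩ := h.step3 hP (zpowers_le.1 e) hx
  exact ⟨y, hP.le hy, e⟩

theorem conj3 {a b : G} (ha : a ∈ Cen1 x) (a3 : a ^ 3 = 1) (ax : a ∉ zpowers x)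
    (hb : b ∈ Cen1 x) (b3 : b ^ 3 = 1) (bx : b ∉ zpowers x) :
    ∃ k ∈ Cen1 x, k * a * k⁻¹ = b := by
  have q : ∀ {a} (ha : a ∈ Cen1 x), a ^ 3 = 1 → a ∉ zpowers x →
      π ⟨a, ha⟩ ^ 3 = 1 ∧ π ⟨a, ha⟩ ≠ 1 := fun {a} ha a3 ax =>
    ⟨by rw [← map_pow]; exact h.pi1.2 (by simp [a3]),
      fun e => ax (h.Z3 (h.pi1.1 e) (odd3 (k := 1) a3))⟩
  obtain ⟨m, hm⟩ := h.mf.c3 _ _ (q ha a3 ax).1 (q ha a3 ax).2 (q hb b3 bx).1 (q hb b3 bx).2
  obtain ⟨k, rfl⟩ := h.surj m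
  have hw : b⁻¹ * (k * a * (k : G)⁻¹) ∈ ZZ x z :=
    (h.pi1 (g := (⟨b, hb⟩ : Cen1 x)⁻¹ * (k * ⟨a, ha⟩ * k⁻¹))).1 (by simp [hm])
  have w3 : (b⁻¹ * (k * a * (k : G)⁻¹)) ^ 3 = 1 := by
    have := (Commute.mul_pow (h.cz hw hb) 3)
    rwa [mul_inv_cancel_left, conj_pow, a3, b3, mul_one, mul_inv_cancel, one_mul, eq_comm] at this
  obtain ⟨y, hy, e⟩ := h.step hb b3 bx
  have xy := c1.1 hy
  rcases mem_zp3 h.ox (h.Z3 hw (odd3 (k := 1) w3)) with e' | e' | e' <;>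
    rw [inv_mul_eq_iff_eq_mul] at e'
  · exact ⟨k, k.2, by simpa using e'⟩
  · exact ⟨y⁻¹ * k, mul_mem (inv_mem hy) k.2, by
      calc _ = y⁻¹ * (k * a * (k : G)⁻¹) * y := by group
        _ = b := by rw [e', ← e]; group⟩
  · exact ⟨y * k, mul_mem hy k.2, by
      calc _ = y * (k * a * (k : G)⁻¹) * y⁻¹ := by group
        _ = y * b * y⁻¹ * (y * x * y⁻¹)⁻¹ := by rw [e']; group
        _ = b := by rw [e, c1'.1 hy]; group⟩

theorem conj2 (hz : z = 1) {a b : G} (ha : a ∈ Cen1 x) (ia : BS.Inv a) (hb : b ∈ Cen1 x)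
    (ib : BS.Inv b) : ∃ k ∈ Cen1 x, k * a * k⁻¹ = b := by
  have q : ∀ {a} (ha : a ∈ Cen1 x), BS.Inv a →
      π ⟨a, ha⟩ * π ⟨a, ha⟩ = 1 ∧ π ⟨a, ha⟩ ≠ 1 := fun {a} ha ia =>
    ⟨by rw [← map_mul]; exact h.pi1.2 (by simp [ia.2]),
      fun e => ia.1 (by simpa [hz] using h.Z2 (h.pi1.1 e) (k := 1) (by simp [pow_two, ia.2]))⟩
  obtain ⟨m, hm⟩ := h.mf.c2 _ _ (q ha ia).1 (q ha ia).2 (q hb ib).1 (q hb ib).2
  obtain ⟨k, rfl⟩ := h.surj m
  have hw : b⁻¹ * (k * a * (k : G)⁻¹) ∈ ZZ x z :=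
    (h.pi1 (g := (⟨b, hb⟩ : Cen1 x)⁻¹ * (k * ⟨a, ha⟩ * k⁻¹))).1 (by simp [hm])
  have w2 : (b⁻¹ * (k * a * (k : G)⁻¹)) ^ 2 ^ 1 = 1 := by
    have := (Commute.mul_pow (h.cz hw hb) 2)
    rwa [mul_inv_cancel_left, conj_pow, pow_two a, pow_two b, ia.2, ib.2, mul_one, mul_inv_cancel,
      one_mul, eq_comm] at this
  exact ⟨k, k.2, by simpa [hz, inv_mul_eq_one, eq_comm] using h.Z2 hw w2⟩

theorem conj (g : G) : ∃ π' : Cen1 (g * x * g⁻¹) →* M, St (g * x * g⁻¹) (g * z * g⁻¹) π' := by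
  have m : ∀ {a b : G}, a ∈ Cen1 (g * b * g⁻¹) ↔ g⁻¹ * a * g ∈ Cen1 b := by
    intro a b; rw [← conj_c1, mem_conjS]
  let φ : Cen1 (g * x * g⁻¹) →* Cen1 x :=
    { toFun := fun a => ⟨g⁻¹ * a * g, m.1 a.2⟩
      map_one' := by ext; simp
      map_mul' := fun a b => by ext; simp [mul_assoc] }
  refine ⟨π.comp φ, h.mf, by rw [oconj, h.ox], by simp [mul_assoc, ← mul_assoc z, h.z2],
    m.2 (by simpa [mul_assoc] using h.zx), fun a ha => m.2 (h.zc (m.1 ha)),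
    h.surj.comp fun a => ⟨⟨g * a * g⁻¹, m.2 (by simp [mul_assoc])⟩, by ext; simp [φ, mul_assoc]⟩,
    ?_, by rw [← conj_c1, ← conjS_commutator, h.perf]⟩
  ext a
  have : ZZ (g * x * g⁻¹) (g * z * g⁻¹) = conjS g (ZZ x z) := by
    rw [conjS_sup, conjS, conjS, MonoidHom.map_zpowers, MonoidHom.map_zpowers]; rfl
  rw [MonoidHom.mem_ker, MonoidHom.comp_apply, h.pi1, mem_subgroupOf, this, mem_conjS]
  rfl

theorem odd_c {g : G} (hg : g ∈ Nor (zpowers x)) (ho : Odd (orderOf g)) : g ∈ Cen1 x :=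
  GW.mem_of_sq_mem ho (sq_c1 h.ox hg)

end St

end J4
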