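import Cfsg.Agent.J4.Y

/-! The module of order `2 ^ 12`. -/

set_option autoImplicit false
set_option linter.unusedSectionVars false

namespace J4
open Cfsg Subgroup FT H4 H5 GW
open scoped commutatorElement

variable {K : Type*} [Group K] {V : Type*} [CommGroup V] [MulDistribMulAction K V]
  {M : Type*} [Group M]

variable (V) in
/-- fixed points -/
def Fx (g : K) : Subgroup V where
  carrier := {v | g • v = v}
  one_mem' := smul_one g
  mul_mem' := fun {a b} ha hb => by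
    show g • (a * b) = a * b
    rw [smul_mul', show g • a = a from ha, show g • b = b from hb]
  inv_mem' := fun {a} ha => by
    show g • a⁻¹ = a⁻¹
    rw [smul_inv', show g • a = a from ha]

theorem mFx {g : K} {v : V} : v ∈ Fx V g ↔ g • v = v := Iff.rfl

theorem Fx_conj {g a : K} {v : V} : v ∈ Fx V (g * a * g⁻¹) ↔ g⁻¹ • v ∈ Fx V a := by
  rw [mFx, mFx, mul_smul, mul_smul, smul_eq_iff_eq_inv_smul]

theorem card_Fx_conj (g a : K) : Nat.card (Fx V (g * a * g⁻¹)) = Nat.card (Fx V a) :=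
  Nat.card_congr ((MulAction.toPerm g⁻¹).subtypeEquiv fun _ => Fx_conj)

theorem Fx_smul {g a : K} (h : g ∈ Cen1 a) {v : V} (hv : v ∈ Fx V a) : g • v ∈ Fx V a := by
  rw [mFx, ← mul_smul, ← c1.1 h, mul_smul, mFx.1 hv]

variable (V) in
/-- the commutator map -/
def ph (t : K) : V →* V where
  toFun v := v * t • v
  map_one' := by simp
  map_mul' a b := by rw [smul_mul', mul_mul_mul_comm]

theorem ph_apply (t : K) (v : V) : ph V t v = v * t • v := rfl

theorem ph_smul {g t : K} (h : g ∈ Cen1 t) (v : V) : g • ph V t v = ph V t (g • v) := by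
  rw [ph_apply, ph_apply, smul_mul', ← mul_smul, c1.1 h, mul_smul]

theorem card_sup_comm {A B : Subgroup V} (h : A ⊓ B = ⊥) :
    Nat.card ↥(A ⊔ B) = Nat.card A * Nat.card B := by
  rw [← H7.card_sup_mul_card_inf (le_top.trans (normalizer_eq_top B).ge), h, card_bot, mul_one]

theorem card_map_mul {G H : Type*} [Group G] [Group H] (f : G →* H) (X : Subgroup G) :
    Nat.card ↥(f.ker ⊓ X) * Nat.card (X.map f) = Nat.card X := by
  rw [← relIndex_ker, H7.card_inf_mul_relIndex]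

variable (V) in
structure KS (x c y t : K) (π : Cen1 x →* M) : Prop extends St x 1 π where
  fa : ∀ g : K, (∀ v : V, g • v = v) → g = 1
  v2 : ∀ v : V, v * v = 1
  fx : ∀ v : V, x • v = v → v = 1
  e9 : E9 x c
  yC : y ∈ Cen1 x
  yc : y * c * y⁻¹ = c * x
  D : Nat.card (Fx V c) = 16
  cen : Cen1 c ≤ Nor (zpowers x)
  it : BS.Inv t
  tx : t ∈ Cen1 x
  tc : t ∈ Cen1 c
  tD : Fx V c ≤ Fx V t
  ttt : t * (y * t * y⁻¹) * (y * (y * t * y⁻¹) * y⁻¹) = 1

namespace KS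
variable [Finite K] [Finite V] {x c y t : K} {π : Cen1 x →* M} (h : KS V x c y t π)
include h

theorem inv (v : V) : v⁻¹ = v := inv_eq_of_mul_eq_one_left (h.v2 v)

theorem eq_of {a b : V} (e : a * b = 1) : a = b := by
  rw [eq_inv_of_mul_eq_one_left e, h.inv]

theorem xxx (v : V) : x • x • x • v = v := by
  rw [← mul_smul, ← mul_smul, ← pow_three', h.toSt.x3, one_smul]

theorem xc (v : V) : x • c • v = c • x • v := by rw [← mul_smul, ← c1.1 h.e9.cm, mul_smul]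

theorem n0 (w : V) : w * x • w * x • x • w = 1 := h.fx _ (by
  rw [smul_mul', smul_mul', h.xxx]; ac_rfl)

theorem yc2 : y * (c * x) * y⁻¹ = c * x * x := by
  calc _ = y * c * y⁻¹ * (y * x * y⁻¹) := by group
    _ = _ := by rw [h.yc, c1'.1 h.yC]

theorem ker_ph : (ph V t).ker = Fx V t := by
  ext v
  exact ⟨fun e => (h.eq_of e).symm, fun e => by
    rw [MonoidHom.mem_ker, ph_apply, mFx.1 e, h.v2]⟩

theorem nm {a : K} (a3 : a ^ 3 = 1) (v : V) : v * a • v * a • a • v ∈ Fx V a := by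
  have : a • a • a • v = v := by rw [← mul_smul, ← mul_smul, ← pow_three', a3, one_smul]
  rw [mFx, smul_mul', smul_mul', this]
  ac_rfl

theorem dec (v : V) : ∃ a ∈ Fx V c, ∃ b ∈ Fx V (c * x), ∃ d ∈ Fx V (c * x * x),
    v = a * (b * d) := by
  refine ⟨_, h.nm h.e9.c3 v, _, h.nm (by rw [← h.yc, conj_pow, h.e9.c3]; simp) v, _,
    h.nm (by rw [← h.yc2, ← h.yc, conj_pow, conj_pow, h.e9.c3]; simp) v, ?_⟩
  simp only [mul_smul, ← h.xc, h.xxx]
  calc v = v * (v * v) * (c • v * x • c • v * x • x • c • v) *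
      (c • c • v * x • c • c • v * x • x • c • c • v) := by rw [h.n0, h.n0, h.v2]; simp
    _ = _ := by ac_rfl

theorem x2 {v : V} (hv : v ∈ Fx V (c * x)) : x • v ∈ Fx V (c * x) :=
  Fx_smul (c1s.1 (mul_mem h.e9.cm h.toSt.xC)) hv

theorem x3' {v : V} (hv : v ∈ Fx V (c * x * x)) : x • v ∈ Fx V (c * x * x) :=
  Fx_smul (c1s.1 (mul_mem (mul_mem h.e9.cm h.toSt.xC) h.toSt.xC)) hv

theorem i23 : Fx V (c * x) ⊓ Fx V (c * x * x) = ⊥ := eq_bot_iff.2 fun v hv => h.fx v (by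
  have e := mFx.1 hv.2
  rwa [mul_smul, mFx.1 (h.x2 hv.1)] at e)

theorem i123 : Fx V c ⊓ (Fx V (c * x) ⊔ Fx V (c * x * x)) = ⊥ := eq_bot_iff.2 fun v hv => by
  obtain ⟨b, hb, d, hd, rfl⟩ := mem_sup.1 hv.2
  have e1 : c • b = x • x • b := by
    conv_lhs => rw [← h.xxx b, ← mul_smul, mFx.1 (h.x2 (h.x2 hb))]
  have e2 : c • d = x • d := by
    conv_lhs => rw [← h.xxx d, ← mul_smul, ← mul_smul, mFx.1 (h.x3' hd)]
  have e := mFx.1 hv.1
  rw [smul_mul', e1, e2] at e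
  have e3 : x • b = x • x • d := h.eq_of (by
    calc _ = (b * x • b * x • x • b) * (d * x • d * x • x • d) *
        ((x • x • b * x • d) * (b * d))⁻¹ := by
          rw [eq_mul_inv_iff_mul_eq]; ac_rfl
      _ = 1 := by rw [h.n0, h.n0, e, h.v2 (b * d)]; simp)
  rw [smul_left_cancel_iff] at e3
  have hb' : b = 1 := mem_bot.1 (h.i23 ▸ mem_inf.2 ⟨hb, e3 ▸ h.x3' hd⟩)
  rw [hb', eq_comm, smul_eq_iff_eq_inv_smul, smul_one] at e3
  simp [hb', e3]

theorem D2 : Nat.card (Fx V (c * x)) = 16 := by rw [← h.yc, card_Fx_conj, h.D]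
theorem D3 : Nat.card (Fx V (c * x * x)) = 16 := by rw [← h.yc2, card_Fx_conj, h.D2]

theorem cV : Nat.card V = 4096 := by
  have : Fx V c ⊔ (Fx V (c * x) ⊔ Fx V (c * x * x)) = ⊤ := eq_top_iff.2 fun v _ => by
    obtain ⟨a, ha, b, hb, d, hd, rfl⟩ := h.dec v
    exact mul_mem_sup ha (mul_mem_sup hb hd)
  rw [← card_top, ← this, card_sup_comm h.i123, card_sup_comm h.i23, h.D, h.D2, h.D3]

theorem sym : Fx V (c * x) ≤ Fx V t ↔ Fx V (c * x * x) ≤ Fx V t := by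
  have e : ∀ d ∈ Fx V (c * x * x), d ∈ Fx V t ↔ y⁻¹ • d ∈ Fx V t := fun d hd => by
    have e1 : (y * (y * t * y⁻¹) * y⁻¹) • d = d := by
      rw [← mFx, Fx_conj, Fx_conj]
      apply h.tD
      rwa [← Fx_conj, h.yc, ← Fx_conj, h.yc2]
    have e2 := congrArg (· • d) h.ttt
    simp only [mul_smul _ (y * (y * t * y⁻¹) * y⁻¹), e1, mul_smul t, one_smul] at e2
    rw [← Fx_conj, mFx, mFx, smul_eq_iff_eq_inv_smul _ |>.1 e2, h.it.inv]
  refine ⟨fun e1 d hd => (e d hd).2 (e1 (by rwa [← Fx_conj, h.yc2])), fun e1 d hd => ?_⟩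
  have : y • d ∈ Fx V (c * x * x) := by rwa [← h.yc2, Fx_conj, inv_smul_smul]
  simpa using (e _ this).1 (e1 this)

theorem ns : ¬ Fx V (c * x) ≤ Fx V t := fun e => h.it.1 (h.fa t fun v => by
  obtain ⟨a, ha, b, hb, d, hd, rfl⟩ := h.dec v
  exact mFx.1 (mul_mem (h.tD ha) (mul_mem (e hb) (h.sym.1 e hd))))

theorem ph_fx (v : V) : ph V t v ∈ Fx V t := by
  rw [mFx, ph_apply, smul_mul', ← mul_smul, h.it.2, one_smul, mul_comm]

theorem half {D : Subgroup V} (cD : Nat.card D = 16) (h1 : ∀ v ∈ D, t • v ∈ D)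
    (h2 : ∀ v ∈ D, x • v ∈ D) (h3 : ¬ D ≤ Fx V t) :
    D.map (ph V t) = Fx V t ⊓ D ∧ Nat.card (D.map (ph V t)) = 4 := by
  have l1 : D.map (ph V t) ≤ Fx V t ⊓ D := by
    rintro _ ⟨v, hv, rfl⟩
    exact ⟨h.ph_fx v, mul_mem hv (h1 v hv)⟩
  have e := card_map_mul (ph V t) D
  rw [h.ker_ph, cD] at e
  have l2 := card_le_of_le l1
  obtain ⟨v, hv, hv'⟩ := SetLike.not_le_iff_exists.1 h3
  have w1 : ph V t v ≠ 1 := fun e => hv' (h.ker_ph ▸ e)
  have l3 : 2 < Nat.card (D.map (ph V t)) := (Set.two_lt_ncard (Set.toFinite _)).2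
    ⟨1, one_mem _, _, mem_map_of_mem _ hv, x • ph V t v, by
      rw [ph_smul (c1s.1 h.tx)]; exact mem_map_of_mem _ (h2 v hv), w1.symm,
      fun e => w1 (by rw [eq_comm, smul_eq_iff_eq_inv_smul, smul_one] at e; exact e),
      fun e => w1 (h.fx _ e.symm)⟩
  have l4 : Nat.card (D.map (ph V t)) = 4 := by
    generalize Nat.card (D.map (ph V t)) = a at *
    have : a ≤ 4 := by nlinarith
    interval_cases a <;> omega
  exact ⟨SF.eq_of_le_card l1 (by rw [l4] at e ⊢; omega), l4⟩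

theorem h2 : (Fx V (c * x)).map (ph V t) = Fx V t ⊓ Fx V (c * x) ∧
    Nat.card ((Fx V (c * x)).map (ph V t)) = 4 :=
  h.half h.D2 (fun _ => Fx_smul (c1s.1 (mul_mem (c1s.1 h.tc) (c1s.1 h.tx)))) (fun _ => h.x2) h.ns

theorem h3 : (Fx V (c * x * x)).map (ph V t) = Fx V t ⊓ Fx V (c * x * x) ∧
    Nat.card ((Fx V (c * x * x)).map (ph V t)) = 4 :=
  h.half h.D3 (fun _ => Fx_smul (c1s.1 (mul_mem (mul_mem (c1s.1 h.tc) (c1s.1 h.tx)) (c1s.1 h.tx))))
    (fun _ => h.x3') (mt h.sym.2 h.ns)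

theorem U_eq : (ph V t).range =
    (Fx V (c * x)).map (ph V t) ⊔ (Fx V (c * x * x)).map (ph V t) := by
  refine le_antisymm ?_ (sup_le (map_le_range _ _) (map_le_range _ _))
  rintro _ ⟨v, rfl⟩
  obtain ⟨a, ha, b, hb, d, hd, rfl⟩ := h.dec v
  rw [map_mul, map_mul, show ph V t a = 1 from h.ker_ph.ge (h.tD ha), one_mul]
  exact mul_mem_sup (mem_map_of_mem _ hb) (mem_map_of_mem _ hd)

theorem U_le : (ph V t).range ≤ Fx V (c * x) ⊔ Fx V (c * x * x) :=
  h.U_eq ▸ sup_le_sup (h.h2.1.le.trans inf_le_right) (h.h3.1.le.trans inf_le_right)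

theorem cU : Nat.card (ph V t).range = 16 := by
  rw [h.U_eq, card_sup_comm (eq_bot_iff.2 (h.i23 ▸ inf_le_inf (h.h2.1.le.trans inf_le_right)
    (h.h3.1.le.trans inf_le_right))), h.h2.2, h.h3.2]

theorem cF : Nat.card (Fx V t) = 256 := by
  have e := card_map_mul (ph V t) ⊤
  rw [h.ker_ph, inf_top_eq, ← MonoidHom.range_eq_map, h.cU, card_top, h.cV] at e
  omega

theorem F_eq : Fx V t = Fx V c ⊔ (ph V t).range := by
  refine (SF.eq_of_le_card (sup_le h.tD ?_) ?_).symm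
  · rintro _ ⟨v, rfl⟩; exact h.ph_fx v
  · rw [card_sup_comm (eq_bot_iff.2 (h.i123 ▸ inf_le_inf_left _ h.U_le)), h.D, h.cU, h.cF]

theorem outer {u : K} (e : u * x * u⁻¹ = x⁻¹) : Nat.card (Fx V u) ≤ 64 := by
  have e1 : Fx V u ⊓ Fx V (x * u * x⁻¹) = ⊥ := eq_bot_iff.2 fun v hv => h.fx v (by
    have e2 := mFx.1 hv.2
    rw [show x * u * x⁻¹ = x * (u * x * u⁻¹)⁻¹ * u by group, e, inv_inv, mul_smul, mFx.1 hv.1,
      mul_smul] at e2
    conv_lhs => rw [← e2, h.xxx])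
  have e2 := card_le_card_group (Fx V u ⊔ Fx V (x * u * x⁻¹))
  rw [card_sup_comm e1, card_Fx_conj, h.cV] at e2
  nlinarith

end KS

end J4
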