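import Cfsg.Agent.J4.St

/-! A Sylow argument. -/

set_option autoImplicit false
set_option linter.unusedSectionVars false

namespace J4
open Cfsg Subgroup FT H4 H5 GW
open scoped commutatorElement

variable {G : Type*} [Group G] [Finite G]

/-- `A = ⟨x, c⟩` is elementary of order 9 -/
structure E9 (x c : G) : Prop where
  ox : orderOf x = 3
  c3 : c ^ 3 = 1
  cx : c ∉ zpowers x
  cm : c ∈ Cen1 x

namespace E9
variable {x c : G} (h : E9 x c)
include h

theorem x3 : x ^ 3 = 1 := h.ox ▸ pow_orderOf_eq_one x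
theorem oc : orderOf c = 3 := ord3 h.c3 fun e => h.cx (e ▸ one_mem _)
theorem card : Nat.card (ZZ x c) = 9 := by
  rw [H7.card_sup_zpowers (p := 3) (mzp h.cm) h.cx (h.c3 ▸ one_mem _), Nat.card_zpowers, h.ox]
theorem mem {a : G} (ha : a ∈ ZZ x c) : ∃ n ∈ zpowers x, ∃ k : ℤ, n * c ^ k = a :=
  (H7.mem_sup_zpowers (mzp h.cm)).1 ha
theorem le : ZZ x c ≤ Cen1 x := sup_le (zpowers_le.2 (c1.2 rfl)) (zpowers_le.2 h.cm)
theorem le' : ZZ x c ≤ Cen1 c := sup_le (zpowers_le.2 (c1s.1 h.cm)) (zpowers_le.2 (c1.2 rfl))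
theorem comm : IsMulCommutative (ZZ x c) :=
  comm_iff_le_cen.2 (sup_le (zp_le_cen.2 h.le) (zp_le_cen.2 h.le'))
theorem pg : IsPGroup 3 (ZZ x c) := IsPGroup.of_card (n := 2) h.card
theorem exp {a : G} (ha : a ∈ ZZ x c) : a ^ 3 = 1 := by
  obtain ⟨n, hn, k, rfl⟩ := h.mem ha
  rw [Commute.mul_pow (Commute.zpow_right (c1c.1 (h.le' (mem_sup_left hn))) k),
    orderOf_dvd_iff_pow_eq_one.1 (h.ox ▸ orderOf_dvd_of_mem_zpowers hn),
    orderOf_dvd_iff_pow_eq_one.1 (h.oc ▸ orderOf_dvd_of_mem_zpowers (zpow_mem_zpowers c k)),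
    mul_one]
theorem gen {K H : Subgroup G} (hn : ZZ x c ≤ Nor K) (hK : IsPGroup 2 K)
    (e : ∀ a ∈ ZZ x c, a ≠ 1 → K ⊓ Cen1 a ≤ H) : K ≤ H :=
  le_of_centralizer_singleton_of_elem (p := 3) ⟨h.comm, fun _ => h.exp⟩
    h.card.ge hn (fun d => by
      obtain ⟨k, hk⟩ := H7.card_eq_pow_of_le hK
      exact absurd (Nat.prime_three.dvd_of_dvd_pow (hk ▸ d)) (by norm_num)) e

theorem symm : E9 c x := ⟨h.oc, h.x3, fun e => h.cx (by
  rcases mem_zp3 h.oc e with e | e | e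
  · exact absurd h.ox (by simp [e])
  · exact e ▸ mem_zpowers _
  · rw [e]; simp), c1s.1 h.cm⟩

end E9

theorem core3 {L S : Subgroup G} (hS : IsSylowOf 2 S L) (h3 : Nat.card L = Nat.card S * 3) :
    Nat.card L ∣ Nat.card (pCoreIn 2 L) * 6 := by
  have e1 : (S.subgroupOf L).index = 3 := by
    have := H7.card_mul_relIndex hS.le
    exact Nat.eq_of_mul_eq_mul_left Nat.card_pos (this.trans h3)
  have e2 : (S.subgroupOf L).normalCore.index ∣ 6 := by
    rw [normalCore_eq_ker, index_ker]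
    refine (card_subgroup_dvd_card _).trans ?_
    rw [Nat.card_perm, ← index_eq_card, e1]; decide
  have e3 : (S.subgroupOf L).normalCore ≤ pCore 2 L :=
    le_pCore inferInstance ((isPGroup_subgroupOf hS.isPGroup L).to_le (normalCore_le _))
  rw [card_map_of_injective L.subtype_injective, ← (pCore 2 L).card_mul_index]
  exact mul_dvd_mul_left _ ((index_dvd_of_le e3).trans e2)

theorem lemY {Y L N : Subgroup G} {x c : G} (h : E9 x c) (hA : IsSylowOf 3 (ZZ x c) Y)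
    (cL : c ∈ L) (xL : x ∉ L) (LY : L ≤ Y) (nL : Y ≤ Nor L)
    (hN : ∀ a ∈ ZZ x c, a ≠ 1 → Cen1 a ≤ N) (hc : Nor (zpowers c) ≤ N)
    (h5 : ¬ 5 ∣ Nat.card ↥(Y ⊓ N)) (h7 : ¬ 7 ∣ Nat.card ↥(Y ⊓ N)) {k : ℕ}
    (hL : Nat.card L ∣ 2 ^ k * 315) : Y ≤ N := by
  have xY : x ∈ Y := hA.le (mem_sup_left (mem_zpowers x))
  have s1 : IsSylowOf 3 (zpowers c) L := by
    have := hA.inf_of_le_normalizer LY (hA.le.trans nL)
    rwa [show ZZ x c ⊓ L = zpowers c from le_antisymm (fun a ha => by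
      obtain ⟨n, hn, j, rfl⟩ := h.mem ha.1
      have nL : n ∈ L := (L.mul_mem_cancel_right (zpow_mem cL j)).1 ha.2
      rcases mem_zp3 h.ox hn with rfl | rfl | rfl
      · simp
      · exact absurd nL xL
      · exact absurd (inv_mem_iff.1 nL) xL) (le_inf le_sup_right (zpowers_le.2 cL))] at this
  have n9 : ¬ 9 ∣ Nat.card L := fun d => by
    have := s1.card_eq
    rw [Nat.card_zpowers, h.oc] at this
    have e := (Nat.prime_three.pow_dvd_iff_le_factorization (k := 2) Nat.card_pos.ne').1 d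
    have := Nat.pow_le_pow_right (n := 3) (by norm_num) e
    omega
  have d3 : 3 ∣ Nat.card L := h.oc ▸ L.orderOf_dvd_natCard cL
  have cj : ∀ a ∈ Y, ∀ j, a ^ 3 ^ j = 1 → ∃ g ∈ Y, g * a * g⁻¹ ∈ ZZ x c := fun a ha j e => by
    obtain ⟨g, hg, e⟩ := hA.exists_conj_le (Q := zpowers a)
      (IsPGroup.of_card (n := _) (by
        rw [Nat.card_zpowers]
        exact ((Nat.dvd_prime_pow Nat.prime_three).1 (orderOf_dvd_of_pow_eq_one e)).choose_spec.2))
      (zpowers_le.2 ha)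
    exact ⟨g, hg, e (mem_map_of_mem _ (mem_zpowers a))⟩
  have s2 : ∀ (r : ℕ) [Fact r.Prime], r ∣ Nat.card L → ¬ r ∣ Nat.card ↥(Y ⊓ N) →
      ¬ r ^ 2 ∣ Nat.card L → r ≠ 3 → ∃ R ≤ L, Nat.card R = r ∧ ∃ m n, ¬ 3 ∣ m ∧ n ∣ r - 1 ∧
        3 * Nat.card ↥(Nor R ⊓ L) ∣ m * n := by
    intro r hr d1 d2 d3 r3
    obtain ⟨R, hR⟩ := exists_isSylowOf r L
    have cR : Nat.card R = r := by
      rw [hR.card_eq]
      have e1 := (hr.out.dvd_iff_one_le_factorization Nat.card_pos.ne').1 d1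
      have e2 := mt (hr.out.pow_dvd_iff_le_factorization (k := 2) Nat.card_pos.ne').2 d3
      rw [show (Nat.card L).factorization r = 1 by omega, pow_one]
    obtain ⟨l, hl, hw⟩ := hR.frattini (nL xY)
    obtain ⟨a, ha, b, hb, e, a3, b3⟩ := exists_piPart {3} (l⁻¹ * x)
    have wT : zpowers (l⁻¹ * x) ≤ Y ⊓ Nor R := zpowers_le.2 (mem_inf.2 ⟨mul_mem (inv_mem (LY hl)) xY, hw⟩)
    obtain ⟨j, hj⟩ := (piNum_singleton Nat.prime_three (orderOf_pos a).ne').1 a3
    obtain ⟨g, hg, eg⟩ := cj a (wT ha).1 j (hj ▸ pow_orderOf_eq_one a)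
    have a3' : a ^ 3 = 1 := by simpa [conj_pow] using h.exp eg
    have aL : a ∉ L := fun aL => by
      have w3 : (l⁻¹ * x) ^ 3 ∈ L := by
        have : (l⁻¹ * x) ^ 3 = l⁻¹ * (x * l⁻¹ * x⁻¹) * (x⁻¹ * l⁻¹ * x) := by
          rw [show l⁻¹ * (x * l⁻¹ * x⁻¹) * (x⁻¹ * l⁻¹ * x) =
            l⁻¹ * x * l⁻¹ * (x ^ 3)⁻¹ * x * l⁻¹ * x by group, h.x3]
          simp [pow_succ, mul_assoc]
        exact this ▸ mul_mem (mul_mem (inv_mem hl) (cmem (nL xY) (inv_mem hl)))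
          (cmem' (nL xY) (inv_mem hl))
      have cm : Commute a b := by
        obtain ⟨i, rfl⟩ := ha; obtain ⟨i', rfl⟩ := hb; exact Commute.zpow_zpow_self _ _ _
      rw [e, cm.mul_pow, a3', one_mul] at w3
      have bL := H4.mem_of_pow_mem_of_coprime w3
        ((piNum_compl_singleton' Nat.prime_three).1 b3)
      exact xL ((L.mul_mem_cancel_left (inv_mem hl)).1 (e ▸ mul_mem aL bL))
    refine ⟨R, hR.le, cR, Nat.card ↥(Cen R ⊓ (Y ⊓ Nor R)), (Cen R).relIndex (Y ⊓ Nor R),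
      fun d => ?_, ?_, ?_⟩
    · obtain ⟨u, hu, ou⟩ := exists_orderOf_eq_prime_mem d
      obtain ⟨g, hg, eg⟩ := cj u hu.2.1 1 (ou ▸ by simp)
      refine d2 (cR ▸ card_conjS g R ▸ card_dvd_of_le (le_inf ?_ (le_trans ?_ (hN _ eg
        fun e => by rw [conj_eq_one_iff.1 e] at ou; simp at ou))))
      · exact (conjS_mono g (hR.le.trans LY)).trans (conjS_eq_of_mem hg).le
      · exact conj_c1 g u ▸ conjS_mono g (cen_iff_le.1 hu.1)
    · haveI := isCyclic_of_prime_card cR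
      have := relIndex_cen_dvd_card_mulAut (inf_le_right : Y ⊓ Nor R ≤ Nor R)
      rwa [IsCyclic.card_mulAut, cR, Nat.totient_prime hr.out] at this
    · rw [H7.card_inf_mul_relIndex, mul_comm, ← H7.card_sup_zpowers (p := 3) (x := a)
        (minf (le_normalizer (wT ha).2) (nL (wT ha).1)) (fun e => aL e.2) (a3' ▸ one_mem _)]
      exact card_dvd_of_le (sup_le (le_inf (inf_le_right.trans LY) inf_le_left)
        (zpowers_le.2 (wT ha)))
  have n25 : ∀ r, (r ^ 2).Coprime 2 → ¬ r ^ 2 ∣ 315 → ¬ r ^ 2 ∣ Nat.card L := fun r h1 h2 d =>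
    h2 ((Nat.Coprime.pow_right k h1).dvd_of_dvd_mul_left (d.trans hL))
  have n5 : ¬ 5 ∣ Nat.card L := fun d => by
    haveI : Fact (Nat.Prime 5) := ⟨by norm_num⟩
    obtain ⟨R, -, -, m, n, e1, e2, e3⟩ := s2 5 d h5 (n25 5 (by norm_num) (by norm_num)) (by norm_num)
    rcases (Nat.prime_three.dvd_mul).1 ((Dvd.intro _ rfl).trans e3) with e | e
    · exact e1 e
    · exact absurd (e.trans e2) (by norm_num)
  obtain ⟨u, v, hu, hv, huv⟩ := Nat.dvd_mul.1 hL
  obtain ⟨i, -, rfl⟩ := (Nat.dvd_prime_pow Nat.prime_two).1 hu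
  have v3 : 3 ∣ v := (Nat.Coprime.pow_right i (by norm_num)).dvd_of_dvd_mul_left (huv ▸ d3)
  have v9 : ¬ 9 ∣ v := fun d => n9 (huv ▸ d.mul_left _)
  have v5 : ¬ 5 ∣ v := fun d => n5 (huv ▸ d.mul_left _)
  have hv' : v = 3 ∨ v = 21 := by
    have := Nat.le_of_dvd (by norm_num) hv
    interval_cases v <;> omega
  rcases hv' with rfl | rfl
  swap
  · exfalso
    haveI : Fact (Nat.Prime 7) := ⟨by norm_num⟩
    obtain ⟨R, RL, cR, m, n, e1, e2, e3⟩ := s2 7 (huv ▸ Dvd.dvd.mul_left (by norm_num) _) h7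
      (n25 7 (by norm_num) (by norm_num)) (by norm_num)
    have e4 : ¬ 3 ∣ Nat.card ↥(Nor R ⊓ L) := fun d => by
      have : 9 ∣ m * n := (Nat.mul_dvd_mul_left 3 d).trans e3
      have := (Nat.Coprime.pow_left 2 ((Nat.Prime.coprime_iff_not_dvd Nat.prime_three).2 e1)
        ).dvd_of_dvd_mul_left this
      exact absurd (this.trans e2) (by norm_num)
    obtain ⟨q, q1, q2⟩ := H9.relIndex_normalizer_modEq (p := 7) R L RL (k := 1) (m := 2 ^ i * 3)
      (by rw [← huv]; ring) (fun d => by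
        have := (Nat.Coprime.pow_right i (by norm_num)).dvd_of_dvd_mul_left d; omega)
      (by simpa using cR)
    have q3 : 3 ∣ q := ((Nat.prime_three.dvd_mul).1 (q2 ▸ d3)).resolve_right e4
    obtain ⟨q', rfl⟩ := q3
    have q7 : q' ∣ 2 ^ i := by
      have : q' ∣ 2 ^ i * 7 := Nat.dvd_of_mul_dvd_mul_left (by norm_num : 0 < 3)
        ⟨Nat.card ↥(Nor R ⊓ L), by rw [← q2, ← huv]; ring⟩
      refine Nat.Coprime.dvd_of_dvd_mul_right ?_ this
      exact ((Nat.Prime.coprime_iff_not_dvd (by norm_num)).2 fun d => by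
        unfold Nat.ModEq at q1; omega).symm
    obtain ⟨j, -, rfl⟩ := (Nat.dvd_prime_pow Nat.prime_two).1 q7
    have : ∀ j, 2 ^ j % 7 = 1 ∨ 2 ^ j % 7 = 2 ∨ 2 ^ j % 7 = 4 := fun j => by
      induction j with
      | zero => simp
      | succ j ih => rw [pow_succ]; omega
    have := this j
    unfold Nat.ModEq at q1; omega
  obtain ⟨S, hS⟩ := exists_isSylowOf 2 L
  have cS : Nat.card S = 2 ^ i := by
    rw [hS.card_eq, ← huv, Nat.factorization_mul (by positivity) (by norm_num), Finsupp.add_apply,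
      Nat.prime_two.factorization_pow, Nat.factorization_eq_zero_of_not_dvd (by norm_num)]
    simp
  have c6 := core3 hS (by rw [cS, huv])
  have O2 := isPGroup_pCoreIn 2 L
  have nO : Y ≤ Nor (pCoreIn 2 L) := nL.trans (nOp 2 L)
  have ON : pCoreIn 2 L ≤ N := h.gen (hA.le.trans nO) O2 fun a ha e => inf_le_right.trans (hN a ha e)
  have l1 : pCoreIn 2 L ⊔ zpowers c ≤ L := sup_le (pCoreIn_le 2 L) (zpowers_le.2 cL)
  have c1 := H7.card_sup_zpowers (p := 3) (nO (LY cL)) (fun e => by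
    obtain ⟨j, hj⟩ := H7.pow_eq_one_of_mem O2 e
    exact absurd (Nat.prime_three.dvd_of_dvd_pow (h.oc ▸ orderOf_dvd_of_pow_eq_one hj))
      (by norm_num)) (h.c3 ▸ one_mem _)
  have n1 : L ≤ Nor (pCoreIn 2 L ⊔ zpowers c) := by
    rw [← normal_subgroupOf_iff_le_normalizer l1]
    have e := H7.card_mul_relIndex l1
    rw [← e, c1, show 6 = 3 * 2 from rfl, ← mul_assoc] at c6
    rcases (Nat.dvd_prime Nat.prime_two).1 (Nat.dvd_of_mul_dvd_mul_left
      (Nat.mul_pos Nat.card_pos (by norm_num)) c6) with e | e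
    exacts [normal_of_index_eq_one e, normal_of_index_eq_two e]
  have LN : L ≤ N := ((s1.of_le le_sup_right l1).sup_normalizer l1 n1).ge.trans
    (sup_le (sup_le ON (le_normalizer.trans hc)) (inf_le_right.trans hc))
  exact (s1.sup_normalizer LY nL).ge.trans (sup_le LN (inf_le_right.trans hc))

end J4
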